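import Groth.Agent.FibCat2Misc.Equiv
import Mathlib.CategoryTheory.Limits.Shapes.Pullback.HasPullback

/-!
Stability properties of representable 1-morphisms; functors over the base between slices.
-/

set_option autoImplicit false
set_option backward.isDefEq.respectTransparency false
set_option backward.isDefEq.respectTransparency.types false
set_option linter.style.haveILetI false
universe v₇ u₇ v₆ u₆ v₅ u₅ v₄ u₄ v₃ u₃ v₂ u₂ v u

noncomputable section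

namespace Groth.Agent.FibCat2Misc

open CategoryTheory CategoryTheory.Limits FibCat Groth.Agent.FibCatRep Groth.Agent.StkBasic

variable {C : Type u} [Category.{v} C]
variable {𝒳 : BasedCategory.{v₂, u₂} C} {𝒴 : BasedCategory.{v₃, u₃} C} {𝒵 : BasedCategory.{v₄, u₄} C}

lemma isEquivOver_fp_change {𝒰 : BasedCategory.{v₅, u₅} C} (f : 𝒳 ⥤ᵇ 𝒴) {G G' : 𝒰 ⥤ᵇ 𝒴} (e : G ≅ G') :
    IsEquivOver (fpMap G f (BasedFunctor.id 𝒰) (BasedFunctor.id 𝒳) (BasedFunctor.id 𝒴) (F := G') e (Iso.refl _)) := by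
  haveI : (BasedFunctor.id 𝒴).toFunctor.Full := inferInstanceAs (𝟭 𝒴.obj).Full
  haveI : (BasedFunctor.id 𝒴).toFunctor.Faithful := inferInstanceAs (𝟭 𝒴.obj).Faithful
  exact isEquivOver_fpMap _ _ _ _ _ _ _ isEquivOver_id isEquivOver_id

theorem isRepresentable1_comp (f : 𝒳 ⥤ᵇ 𝒴) (g : 𝒴 ⥤ᵇ 𝒵) (hf : IsRepresentable1 f)
    (hg : IsRepresentable1 g) : IsRepresentable1 (BasedFunctor.comp f g) := by
  intro U G
  obtain ⟨V, E, hE⟩ := hg U G
  obtain ⟨K, hK, -, -⟩ := isEquivOver_symm hE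
  have h := hf V (BasedFunctor.comp K (fpSnd G g))
  haveI : (BasedFunctor.id 𝒴).toFunctor.Full := inferInstanceAs (𝟭 𝒴.obj).Full
  haveI : (BasedFunctor.id 𝒴).toFunctor.Faithful := inferInstanceAs (𝟭 𝒴.obj).Faithful
  have h' := isRepresentable_of_equiv (isEquivOver_fpMap (BasedFunctor.comp K (fpSnd G g)) f K
    (BasedFunctor.id 𝒳) (BasedFunctor.id 𝒴) (F := fpSnd G g) (G := f) (Iso.refl _) (Iso.refl _)
    hK isEquivOver_id) h
  exact isRepresentable_of_equiv (isEquivOver_assocFun G g f) h'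

theorem isRepresentable1_fpFst (f : 𝒳 ⥤ᵇ 𝒴) (g : 𝒵 ⥤ᵇ 𝒴) (hf : IsRepresentable1 f) :
    IsRepresentable1 (fpFst g f) :=
  fun U G => isRepresentable_of_equiv' (isEquivOver_pasteFun G g f) (hf U (BasedFunctor.comp G g))

theorem isRepresentable1_iff {𝒳' : BasedCategory.{v₅, u₅} C} {𝒴' : BasedCategory.{v₆, u₆} C}
    (f : 𝒳 ⥤ᵇ 𝒴) (f' : 𝒳' ⥤ᵇ 𝒴') (a : 𝒳' ⥤ᵇ 𝒳) (b : 𝒴' ⥤ᵇ 𝒴) (ha : IsEquivOver a) (hb : IsEquivOver b)
    (e : BasedFunctor.comp f' b ≅ BasedFunctor.comp a f) : IsRepresentable1 f ↔ IsRepresentable1 f' := by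
  haveI := (isEquivOver_data hb).1
  have key : ∀ (U : C) (G : overCat U ⥤ᵇ 𝒴'),
      IsEquivOver (fpMap G f' (BasedFunctor.id _) a b (F := BasedFunctor.comp G b) (G := f) (Iso.refl _) e) :=
    fun U G => isEquivOver_fpMap _ _ _ _ _ _ _ isEquivOver_id ha
  refine ⟨fun h U G => isRepresentable_of_equiv' (key U G) (h U _), fun h U G => ?_⟩
  obtain ⟨b', -, -, ⟨i⟩⟩ := isEquivOver_symm hb
  exact isRepresentable_of_equiv (isEquivOver_fp_change f (G := BasedFunctor.comp (BasedFunctor.comp G b') b) (G' := G)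
      ((post (overCat U) (BasedFunctor.id 𝒴)).mapIso ((Stk.restr G 𝒴).mapIso i)))
    (isRepresentable_of_equiv (key U (BasedFunctor.comp G b')) (h U _))

theorem isRepresentable1_of_comp (f : 𝒳 ⥤ᵇ 𝒴) (g : 𝒴 ⥤ᵇ 𝒵)
    (hgf : IsRepresentable1 (BasedFunctor.comp f g)) (hΔ : IsRepresentable1 (FibCat.diag g)) :
    IsRepresentable1 f := by
  intro U y
  obtain ⟨V, E, hE⟩ := hgf U (BasedFunctor.comp y g)
  obtain ⟨K, hK, -, -⟩ := isEquivOver_symm hE
  let Q := fp (BasedFunctor.comp y g) (BasedFunctor.comp f g)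
  let p₁ := fpFst (BasedFunctor.comp y g) (BasedFunctor.comp f g)
  let p₂ := fpSnd (BasedFunctor.comp y g) (BasedFunctor.comp f g)
  let H : Q ⥤ᵇ fp g g :=
    fpLift (BasedFunctor.comp p₁ y) (BasedFunctor.comp p₂ f) (fpIso (BasedFunctor.comp y g) (BasedFunctor.comp f g))
  have h := hΔ V (BasedFunctor.comp K H)
  haveI : (BasedFunctor.id (fp g g)).toFunctor.Full := inferInstanceAs (𝟭 (fp g g).obj).Full
  haveI : (BasedFunctor.id (fp g g)).toFunctor.Faithful := inferInstanceAs (𝟭 (fp g g).obj).Faithful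
  have h' := isRepresentable_of_equiv (isEquivOver_fpMap (BasedFunctor.comp K H) (FibCat.diag g) K
    (BasedFunctor.id 𝒴) (BasedFunctor.id (fp g g)) (F := H) (G := FibCat.diag g) (Iso.refl _) (Iso.refl _)
    hK isEquivOver_id) h
  let P := fp H (FibCat.diag g)
  let q₁ := fpFst H (FibCat.diag g)
  let i₁ := (post P (fpFst g g)).mapIso (fpIso H (FibCat.diag g))
  let i₂ := (post P (fpSnd g g)).mapIso (fpIso H (FibCat.diag g))
  let Θ : P ⥤ᵇ fp y f := fpLift (BasedFunctor.comp q₁ p₁) (BasedFunctor.comp q₁ p₂) (i₁ ≪≫ i₂.symm)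
  refine isRepresentable_of_equiv (F := Θ) ?_ h'
  haveI : Θ.toFunctor.Faithful := ⟨fun {o o'} m m' hm => by
    have h₁ : m.hom.fst.hom.fst = m'.hom.fst.hom.fst := congrArg (fun t => t.hom.fst) hm
    have h₂ : m.hom.fst.hom.snd = m'.hom.fst.hom.snd := congrArg (fun t => t.hom.snd) hm
    have e : m.hom.fst = m'.hom.fst := ObjectProperty.hom_ext _ (CategoricalPullback.hom_ext h₁ h₂)
    refine ObjectProperty.hom_ext _ (CategoricalPullback.hom_ext e ?_)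
    have w : y.map m.hom.fst.hom.fst ≫ o'.obj.iso.hom.hom.fst = o.obj.iso.hom.hom.fst ≫ m.hom.snd :=
      congrArg (fun t => t.hom.fst) m.hom.w
    have w' : y.map m'.hom.fst.hom.fst ≫ o'.obj.iso.hom.hom.fst = o.obj.iso.hom.hom.fst ≫ m'.hom.snd :=
      congrArg (fun t => t.hom.fst) m'.hom.w
    haveI : IsIso o.obj.iso.hom.hom.fst := ((fpFst g g).toFunctor.mapIso o.obj.iso).isIso_hom
    rw [← cancel_epi o.obj.iso.hom.hom.fst, ← w, ← w', h₁]⟩
  haveI : Θ.toFunctor.Full := ⟨fun {o o'} m => by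
    let u : o.obj.fst.obj.fst ⟶ o'.obj.fst.obj.fst := m.hom.fst
    let x : o.obj.fst.obj.snd ⟶ o'.obj.fst.obj.snd := m.hom.snd
    let a : y.obj o.obj.fst.obj.fst ≅ o.obj.snd := (fpFst g g).toFunctor.mapIso o.obj.iso
    let b : f.obj o.obj.fst.obj.snd ≅ o.obj.snd := (fpSnd g g).toFunctor.mapIso o.obj.iso
    let a' : y.obj o'.obj.fst.obj.fst ≅ o'.obj.snd := (fpFst g g).toFunctor.mapIso o'.obj.iso
    let b' : f.obj o'.obj.fst.obj.snd ≅ o'.obj.snd := (fpSnd g g).toFunctor.mapIso o'.obj.iso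
    let i : g.obj (y.obj o.obj.fst.obj.fst) ≅ g.obj (f.obj o.obj.fst.obj.snd) := o.obj.fst.obj.iso
    let i' : g.obj (y.obj o'.obj.fst.obj.fst) ≅ g.obj (f.obj o'.obj.fst.obj.snd) := o'.obj.fst.obj.iso
    have ha : g.map a.hom ≫ 𝟙 _ = i.hom ≫ g.map b.hom := o.obj.iso.hom.hom.w
    have ha' : g.map a'.hom ≫ 𝟙 _ = i'.hom ≫ g.map b'.hom := o'.obj.iso.hom.hom.w
    rw [Category.comp_id] at ha ha'
    have w : y.map u ≫ a'.hom ≫ b'.inv = (a.hom ≫ b.inv) ≫ f.map x := m.hom.w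
    have hu : g.map (y.map u) ≫ i'.hom = i.hom ≫ g.map (f.map x) := by
      rw [← cancel_mono (g.map b'.hom), Category.assoc, Category.assoc, ← ha']
      have hw : y.map u ≫ a'.hom = a.hom ≫ b.inv ≫ f.map x ≫ b'.hom := by
        rw [← cancel_mono b'.inv, Category.assoc, w]; simp
      rw [← Functor.map_comp, hw, Functor.map_comp, ha]
      simp [← Functor.map_comp]
    let mq : o.obj.fst ⟶ o'.obj.fst := ObjectProperty.homMk ⟨u, x, hu⟩
    let n : o.obj.snd ⟶ o'.obj.snd := a.inv ≫ y.map u ≫ a'.hom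
    have h₁ : y.map u ≫ a'.hom = a.hom ≫ n := by simp [n]
    have h₂ : f.map x ≫ b'.hom = b.hom ≫ n := by
      have hw : y.map u ≫ a'.hom = a.hom ≫ b.inv ≫ f.map x ≫ b'.hom := by
        rw [← cancel_mono b'.inv, Category.assoc, w]; simp
      simp [n, hw]
    exact ⟨ObjectProperty.homMk ⟨mq, n, ObjectProperty.hom_ext _ (CategoricalPullback.hom_ext h₁ h₂)⟩,
      ObjectProperty.hom_ext _ (CategoricalPullback.hom_ext rfl rfl)⟩⟩
  refine isEquivOver_of_fullyFaithful Θ fun η => ?_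
  obtain ⟨q, hq⟩ := map_iso_hom η
  have hgi : 𝒵.p.map (g.map η.obj.iso.hom) = eqToHom ((g.w_obj _).trans (q.trans (g.w_obj _).symm)) := by
    rw [map_map, hq]; simp
  let oQ : Q.obj := ⟨⟨η.obj.fst, η.obj.snd, g.toFunctor.mapIso η.obj.iso⟩, fpProp_of_map _ _ _ _ hgi⟩
  let w : H.obj oQ ≅ (FibCat.diag g).obj (f.obj η.obj.snd) :=
    ObjectProperty.isoMk _ (CategoricalPullback.mkIso η.obj.iso (Iso.refl _) (by
      show g.map η.obj.iso.hom ≫ 𝟙 _ = g.map η.obj.iso.hom ≫ g.map (𝟙 _)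
      rw [CategoryTheory.Functor.map_id]))
  refine ⟨⟨⟨oQ, f.obj η.obj.snd, w⟩, fpProp_of_map H (FibCat.diag g) _ _ hq⟩,
    ObjectProperty.isoMk _ (CategoricalPullback.mkIso (Iso.refl _) (Iso.refl _) ?_), rfl,
    (overCat U).p.map_id _⟩
  show y.map (𝟙 _) ≫ η.obj.iso.hom = (η.obj.iso.hom ≫ 𝟙 _) ≫ f.map (𝟙 _)
  simp only [CategoryTheory.Functor.map_id]
  exact (Category.id_comp _).trans ((Category.comp_id _).trans (Category.comp_id _)).symm

theorem isRepresentable1_prod {𝒳₁ : BasedCategory.{v₂, u₂} C} {𝒳₂ : BasedCategory.{v₃, u₃} C}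
    {𝒴₁ : BasedCategory.{v₄, u₄} C} {𝒴₂ : BasedCategory.{v₅, u₅} C} (f₁ : 𝒳₁ ⥤ᵇ 𝒴₁) (f₂ : 𝒳₂ ⥤ᵇ 𝒴₂)
    (hf₁ : IsRepresentable1 f₁) (hf₂ : IsRepresentable1 f₂)
    (e : BasedFunctor.comp (BasedFunctor.comp (fpFst (toSelf 𝒳₁) (toSelf 𝒳₂)) f₁) (toSelf 𝒴₁) ≅
      BasedFunctor.comp (BasedFunctor.comp (fpSnd (toSelf 𝒳₁) (toSelf 𝒳₂)) f₂) (toSelf 𝒴₂)) :
    IsRepresentable1 (fpLift (BasedFunctor.comp (fpFst (toSelf 𝒳₁) (toSelf 𝒳₂)) f₁)
      (BasedFunctor.comp (fpSnd (toSelf 𝒳₁) (toSelf 𝒳₂)) f₂) e) := by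
  intro U G
  let Pm := fpLift (BasedFunctor.comp (fpFst (toSelf 𝒳₁) (toSelf 𝒳₂)) f₁)
    (BasedFunctor.comp (fpSnd (toSelf 𝒳₁) (toSelf 𝒳₂)) f₂) e
  let G₁ := BasedFunctor.comp G (fpFst (toSelf 𝒴₁) (toSelf 𝒴₂))
  let G₂ := BasedFunctor.comp G (fpSnd (toSelf 𝒴₁) (toSelf 𝒴₂))
  obtain ⟨V, E, hE⟩ := hf₁ U G₁
  obtain ⟨K, hK, -, -⟩ := isEquivOver_symm hE
  let G₁₂ := BasedFunctor.comp (fpFst G₁ f₁) G₂
  have h := hf₂ V (BasedFunctor.comp K G₁₂)
  haveI : (BasedFunctor.id 𝒴₂).toFunctor.Full := inferInstanceAs (𝟭 𝒴₂.obj).Full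
  haveI : (BasedFunctor.id 𝒴₂).toFunctor.Faithful := inferInstanceAs (𝟭 𝒴₂.obj).Faithful
  have h' := isRepresentable_of_equiv (isEquivOver_fpMap (BasedFunctor.comp K G₁₂) f₂ K
    (BasedFunctor.id 𝒳₂) (BasedFunctor.id 𝒴₂) (F := G₁₂) (G := f₂) (Iso.refl _) (Iso.refl _)
    hK isEquivOver_id) h
  let L₁ : fp G Pm ⥤ᵇ fp G₁ f₁ := fpLift (fpFst G Pm)
    (BasedFunctor.comp (fpSnd G Pm) (fpFst (toSelf 𝒳₁) (toSelf 𝒳₂)))
    ((post _ (fpFst (toSelf 𝒴₁) (toSelf 𝒴₂))).mapIso (fpIso G Pm))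
  let Θ : fp G Pm ⥤ᵇ fp G₁₂ f₂ := fpLift L₁
    (BasedFunctor.comp (fpSnd G Pm) (fpSnd (toSelf 𝒳₁) (toSelf 𝒳₂)))
    ((post _ (fpSnd (toSelf 𝒴₁) (toSelf 𝒴₂))).mapIso (fpIso G Pm))
  refine isRepresentable_of_equiv' (F := Θ) ?_ h'
  haveI : Θ.toFunctor.Faithful := ⟨fun {o o'} m m' hm => by
    have h₀ : m.hom.fst = m'.hom.fst := congrArg (fun t => t.hom.fst.hom.fst) hm
    have h₁ : m.hom.snd.hom.fst = m'.hom.snd.hom.fst := congrArg (fun t => t.hom.fst.hom.snd) hm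
    have h₂ : m.hom.snd.hom.snd = m'.hom.snd.hom.snd := congrArg (fun t => t.hom.snd) hm
    exact ObjectProperty.hom_ext _ (CategoricalPullback.hom_ext h₀
      (ObjectProperty.hom_ext _ (CategoricalPullback.hom_ext h₁ h₂)))⟩
  haveI : Θ.toFunctor.Full := ⟨fun {o o'} m => by
    let x₁ : o.obj.snd.obj.fst ⟶ o'.obj.snd.obj.fst := m.hom.fst.hom.snd
    let x₂ : o.obj.snd.obj.snd ⟶ o'.obj.snd.obj.snd := m.hom.snd
    let z : o.obj.fst ⟶ o'.obj.fst := m.hom.fst.hom.fst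
    have w₁ : (G.map z).hom.fst ≫ o'.obj.iso.hom.hom.fst = o.obj.iso.hom.hom.fst ≫ f₁.map x₁ :=
      m.hom.fst.hom.w
    have w₂ : (G.map z).hom.snd ≫ o'.obj.iso.hom.hom.snd = o.obj.iso.hom.hom.snd ≫ f₂.map x₂ := m.hom.w
    have hp : (toSelf 𝒳₁).map x₁ ≫ o'.obj.snd.obj.iso.hom = o.obj.snd.obj.iso.hom ≫ (toSelf 𝒳₂).map x₂ := by
      show 𝒳₁.p.map x₁ ≫ _ = _ ≫ 𝒳₂.p.map x₂
      obtain ⟨k, hk⟩ := map_iso_hom o.obj.snd
      obtain ⟨k', hk'⟩ := map_iso_hom o'.obj.snd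
      change o.obj.snd.obj.iso.hom = eqToHom _ at hk
      change o'.obj.snd.obj.iso.hom = eqToHom _ at hk'
      have e₁ : 𝒳₁.p.map x₁ = eqToHom _ ≫ z.left ≫ eqToHom _ := map_snd m.hom.fst
      have e₂ : 𝒳₂.p.map x₂ = eqToHom _ ≫ z.left ≫ eqToHom _ := map_snd m
      rw [hk, hk', e₁, e₂]
      simp
    exact ⟨ObjectProperty.homMk ⟨z, ObjectProperty.homMk ⟨x₁, x₂, hp⟩,
        ObjectProperty.hom_ext _ (CategoricalPullback.hom_ext w₁ w₂)⟩,
      ObjectProperty.hom_ext _ (CategoricalPullback.hom_ext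
        (ObjectProperty.hom_ext _ (CategoricalPullback.hom_ext rfl rfl)) rfl)⟩⟩
  refine isEquivOver_of_fullyFaithful Θ fun η => ?_
  let z : Over U := η.obj.fst.obj.fst
  let x₁ : 𝒳₁.obj := η.obj.fst.obj.snd
  let x₂ : 𝒳₂.obj := η.obj.snd
  let j₁ : (G.obj z).obj.fst ≅ f₁.obj x₁ := η.obj.fst.obj.iso
  let j₂ : (G.obj z).obj.snd ≅ f₂.obj x₂ := η.obj.iso
  obtain ⟨q₁, hq₁⟩ := map_iso_hom η.obj.fst
  obtain ⟨q₂, hq₂⟩ := map_iso_hom η
  have hx : 𝒳₁.p.obj x₁ = 𝒳₂.p.obj x₂ := (fp_obj_eq η.obj.fst).trans (fp_obj_eq η).symm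
  let oX : (fp (toSelf 𝒳₁) (toSelf 𝒳₂)).obj :=
    ⟨⟨x₁, x₂, eqToIso hx⟩, fpProp_of_map (toSelf 𝒳₁) (toSelf 𝒳₂) _ hx rfl⟩
  have hj : 𝒴₁.p.map j₁.hom ≫ (Pm.obj oX).obj.iso.hom = (G.obj z).obj.iso.hom ≫ 𝒴₂.p.map j₂.hom := by
    obtain ⟨k, hk⟩ := map_iso_hom (G.obj z)
    obtain ⟨k', hk'⟩ := map_iso_hom (Pm.obj oX)
    change (G.obj z).obj.iso.hom = eqToHom _ at hk
    change (Pm.obj oX).obj.iso.hom = eqToHom _ at hk'
    have e₁ : 𝒴₁.p.map j₁.hom = eqToHom _ := hq₁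
    have e₂ : 𝒴₂.p.map j₂.hom = eqToHom _ := hq₂
    rw [hk, hk', e₁, e₂, eqToHom_trans, eqToHom_trans]
  let j : G.obj z ≅ Pm.obj oX := ObjectProperty.isoMk _ (CategoricalPullback.mkIso j₁ j₂ hj)
  let oz : (fp G Pm).obj := ⟨⟨z, oX, j⟩, fpProp_of_map G Pm _ q₁ hq₁⟩
  let i₁ : (Θ.obj oz).obj.fst ≅ η.obj.fst :=
    ObjectProperty.isoMk _ (CategoricalPullback.mkIso (Iso.refl _) (Iso.refl _) (by
      show G₁.map (𝟙 z) ≫ η.obj.fst.obj.iso.hom = η.obj.fst.obj.iso.hom ≫ f₁.map (𝟙 x₁)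
      exact (congrArg (· ≫ _) (G₁.toFunctor.map_id z)).trans ((Category.id_comp _).trans
        ((congrArg (_ ≫ ·) (f₁.toFunctor.map_id x₁)).trans (Category.comp_id _)).symm)))
  refine ⟨oz, ObjectProperty.isoMk _ (CategoricalPullback.mkIso i₁ (Iso.refl _) ?_), rfl,
    (overCat U).p.map_id _⟩
  show G₂.map (𝟙 z) ≫ η.obj.iso.hom = η.obj.iso.hom ≫ f₂.map (𝟙 x₂)
  exact (congrArg (· ≫ _) (G₂.toFunctor.map_id z)).trans ((Category.id_comp _).trans
    ((congrArg (_ ≫ ·) (f₂.toFunctor.map_id x₂)).trans (Category.comp_id _)).symm)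

/-- The morphism of the base classifying a functor over the base between slices. -/
def classify {U X : C} (k : overCat U ⥤ᵇ overCat X) : U ⟶ X :=
  eqToHom (k.w_obj (Over.mk (𝟙 U))).symm ≫ (k.obj (Over.mk (𝟙 U))).hom

lemma obj_hom {U X : C} (k : overCat U ⥤ᵇ overCat X) (z : Over U) :
    (k.obj z).hom = eqToHom (k.w_obj z) ≫ z.hom ≫ classify k := by
  let m : z ⟶ Over.mk (𝟙 U) := Over.homMk z.hom (Category.comp_id _)
  have h₁ : (k.map m).left = eqToHom (k.w_obj z) ≫ z.hom ≫ eqToHom (k.w_obj (Over.mk (𝟙 U))).symm :=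
    map_map k m
  rw [← Over.w (k.map m), h₁]
  simp [classify]

/-- A functor over the base between slices is isomorphic to composition with its classifying morphism. -/
def classifyIso {U X : C} (k : overCat U ⥤ᵇ overCat X) :
    k ≅ (⟨Over.map (classify k), Over.mapForget_eq (classify k)⟩ : overCat U ⥤ᵇ overCat X) :=
  BasedNatIso.mkNatIso
    (NatIso.ofComponents (fun z => Over.isoMk (eqToIso (k.w_obj z)) (obj_hom k z).symm)
      (fun {z z'} n => Over.OverMorphism.ext (by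
        show (k.map n).left ≫ eqToHom (k.w_obj z') = eqToHom (k.w_obj z) ≫ n.left
        have h₁ : (k.map n).left = eqToHom (k.w_obj z) ≫ n.left ≫ eqToHom (k.w_obj z').symm :=
          map_map k n
        rw [h₁, Category.assoc, Category.assoc, eqToHom_trans, eqToHom_refl, Category.comp_id])))
    (fun z => IsHomLift.of_fac' (overCat X).p (𝟙 _) _ (k.w_obj z) rfl
      (show eqToHom (k.w_obj z) = _ by simp))

lemma classify_congr {U X : C} {k k' : overCat U ⥤ᵇ overCat X} (e : k ≅ k') : classify k = classify k' := by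
  have h₁ : (e.hom.toNatTrans.app (Over.mk (𝟙 U))).left =
      eqToHom ((k.w_obj (Over.mk (𝟙 U))).trans (k'.w_obj (Over.mk (𝟙 U))).symm) := map_app e.hom _
  rw [classify, classify, ← Over.w (e.hom.toNatTrans.app (Over.mk (𝟙 U))), h₁]
  simp

lemma classify_id (U : C) : classify (BasedFunctor.id (overCat U)) = 𝟙 U := by
  simp [classify, BasedFunctor.id]

lemma classify_comp {U X Y : C} (k : overCat U ⥤ᵇ overCat X) (l : overCat X ⥤ᵇ overCat Y) :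
    classify (BasedFunctor.comp k l) = classify k ≫ classify l := by
  show eqToHom _ ≫ (l.obj (k.obj (Over.mk (𝟙 U)))).hom = _
  rw [obj_hom l, obj_hom k]
  simp [classify]
  exact Category.id_comp _

theorem exists_iso_slices {𝒮 : BasedCategory.{v₂, u₂} C} {X X' : C} (j : 𝒮 ⥤ᵇ overCat X) (j' : 𝒮 ⥤ᵇ overCat X')
    (hj : IsEquivOver j) (hj' : IsEquivOver j') :
    ∃ e : X' ≅ X, Nonempty (BasedFunctor.comp j'
      (⟨Over.map e.hom, Over.mapForget_eq e.hom⟩ : overCat X' ⥤ᵇ overCat X) ≅ j) := by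
  obtain ⟨g', hg', ⟨i₁'⟩, ⟨i₂'⟩⟩ := isEquivOver_symm hj'
  obtain ⟨g, hg, ⟨i₁⟩, ⟨i₂⟩⟩ := isEquivOver_symm hj
  let k := BasedFunctor.comp g' j
  let k' := BasedFunctor.comp g j'
  have h₁ : BasedFunctor.comp k k' ≅ BasedFunctor.id _ :=
    (Stk.restr g' _).mapIso ((post _ j').mapIso i₁) ≪≫ i₂'
  have h₂ : BasedFunctor.comp k' k ≅ BasedFunctor.id _ :=
    (Stk.restr g _).mapIso ((post _ j).mapIso i₁') ≪≫ i₂
  let e : X' ≅ X := ⟨classify k, classify k',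
    by rw [← classify_comp, classify_congr h₁, classify_id],
    by rw [← classify_comp, classify_congr h₂, classify_id]⟩
  exact ⟨e, ⟨(Stk.restr j' (overCat X)).mapIso (classifyIso k).symm ≪≫ (post _ j).mapIso i₁'⟩⟩

theorem isRepresentable1_map [HasPullbacks C] {X Y : C} (f : X ⟶ Y) :
    IsRepresentable1 (⟨Over.map f, Over.mapForget_eq f⟩ : overCat X ⥤ᵇ overCat Y) := by
  intro U G
  let M : overCat X ⥤ᵇ overCat Y := ⟨Over.map f, Over.mapForget_eq f⟩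
  let g : U ⟶ Y := classify G
  let M' : overCat U ⥤ᵇ overCat Y := ⟨Over.map g, Over.mapForget_eq g⟩
  refine isRepresentable_of_equiv (isEquivOver_fp_change M (G := M') (G' := G) (classifyIso G).symm) ?_
  let z₀ : Over U := Over.mk (pullback.fst g f)
  let w₀ : Over X := Over.mk (pullback.snd g f)
  let i₀ : M'.obj z₀ ≅ M.obj w₀ := Over.isoMk (Iso.refl _) (by
    show 𝟙 _ ≫ pullback.snd g f ≫ f = pullback.fst g f ≫ g
    rw [Category.id_comp, pullback.condition])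
  refine isRepresentable_of_terminal (isFibGrpd_fp (isFibGrpd_overCat U) (isFibGrpd_overCat X)
    (isFibGrpd_overCat Y) M' M) ⟨⟨z₀, w₀, i₀⟩, fpProp_of_map M' M _ rfl rfl⟩ fun o => ?_
  obtain ⟨q, hq⟩ := map_iso_hom o
  let z : Over U := o.obj.fst
  let w : Over X := o.obj.snd
  have hh : z.hom ≫ g = (eqToHom (fp_obj_eq o).symm ≫ w.hom) ≫ f := by
    have h₁ : o.obj.iso.hom.left ≫ (w.hom ≫ f) = z.hom ≫ g := Over.w o.obj.iso.hom
    rw [← h₁, Category.assoc]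
    exact congrArg (· ≫ w.hom ≫ f) hq
  constructor
  · let l : z.left ⟶ pullback g f := pullback.lift z.hom (eqToHom (fp_obj_eq o).symm ≫ w.hom) hh
    let a : z ⟶ z₀ := Over.homMk l (pullback.lift_fst _ _ _)
    let b : w ⟶ w₀ := Over.homMk (eqToHom (fp_obj_eq o) ≫ l) (by
      show (eqToHom (fp_obj_eq o) ≫ l) ≫ pullback.snd g f = w.hom
      rw [Category.assoc, pullback.lift_snd, eqToHom_trans_assoc, eqToHom_refl, Category.id_comp])
    refine ⟨ObjectProperty.homMk ⟨a, b, Over.OverMorphism.ext ?_⟩⟩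
    show l ≫ 𝟙 _ = o.obj.iso.hom.left ≫ eqToHom (fp_obj_eq o) ≫ l
    rw [show o.obj.iso.hom.left = eqToHom q from hq, eqToHom_trans_assoc]
    exact (Category.comp_id _).trans (Category.id_comp _).symm
  · intro m m'
    have hs : ∀ n : o ⟶ ⟨⟨z₀, w₀, i₀⟩, fpProp_of_map M' M _ rfl rfl⟩,
        n.hom.snd.left = eqToHom (fp_obj_eq o) ≫ n.hom.fst.left := fun n =>
      (map_snd n).trans (congrArg (eqToHom _ ≫ ·) (Category.comp_id _))
    have hl : m.hom.fst.left = m'.hom.fst.left := by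
      refine pullback.hom_ext ((Over.w m.hom.fst).trans (Over.w m'.hom.fst).symm) ?_
      have e := (Over.w m.hom.snd).trans (Over.w m'.hom.snd).symm
      rw [hs m, hs m'] at e
      rw [← cancel_epi (eqToHom (fp_obj_eq o))]
      exact ((Category.assoc _ _ _).symm.trans e).trans (Category.assoc _ _ _)
    refine ObjectProperty.hom_ext _ (CategoricalPullback.hom_ext (Over.OverMorphism.ext hl)
      (Over.OverMorphism.ext ?_))
    rw [hs m, hs m', hl]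

end Groth.Agent.FibCat2Misc

end
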