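import Groth.Agent.StkBasic.Transport

/-!
Equivalences over the base between iterated fibre products over the base.
-/

set_option autoImplicit false
set_option backward.isDefEq.respectTransparency false
set_option backward.isDefEq.respectTransparency.types false
set_option linter.style.haveILetI false
universe v₉ u₉ v₈ u₈ v₇ u₇ v₆ u₆ v₅ u₅ v₄ u₄ v₃ u₃ v₂ u₂ v u

noncomputable section

namespace Groth.Agent.FibCat2Misc

open CategoryTheory CategoryTheory.Limits FibCat Groth.Agent.FibCatRep Groth.Agent.StkBasic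

variable {C : Type u} [Category.{v} C]
variable {𝒳 : BasedCategory.{v₂, u₂} C} {𝒴 : BasedCategory.{v₃, u₃} C} {𝒵 : BasedCategory.{v₄, u₄} C}

theorem isEquivOver_symm {F : 𝒳 ⥤ᵇ 𝒴} (hF : IsEquivOver F) :
    ∃ G : 𝒴 ⥤ᵇ 𝒳, IsEquivOver G ∧ Nonempty (BasedFunctor.comp F G ≅ BasedFunctor.id 𝒳) ∧
      Nonempty (BasedFunctor.comp G F ≅ BasedFunctor.id 𝒴) := by
  obtain ⟨G, h₁, h₂⟩ := hF
  exact ⟨G, ⟨F, h₂, h₁⟩, h₁, h₂⟩

theorem isEquivOver_comp {F : 𝒳 ⥤ᵇ 𝒴} {G : 𝒴 ⥤ᵇ 𝒵} (hF : IsEquivOver F) (hG : IsEquivOver G) :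
    IsEquivOver (BasedFunctor.comp F G) := by
  obtain ⟨hFe, hFd⟩ := isEquivOver_data hF
  obtain ⟨hGe, hGd⟩ := isEquivOver_data hG
  haveI : (BasedFunctor.comp F G).toFunctor.Full := inferInstanceAs (F.toFunctor ⋙ G.toFunctor).Full
  haveI : (BasedFunctor.comp F G).toFunctor.Faithful :=
    inferInstanceAs (F.toFunctor ⋙ G.toFunctor).Faithful
  refine isEquivOver_of_fullyFaithful _ fun η => ?_
  obtain ⟨y, e, he₀, he⟩ := hGd η
  obtain ⟨x, d, hd₀, hd⟩ := hFd y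
  refine ⟨x, G.toFunctor.mapIso d ≪≫ e,
    ((G.w_obj _).trans (hd₀.trans (G.w_obj y).symm)).trans he₀, ?_⟩
  show 𝒵.p.map (G.map d.hom ≫ e.hom) = _
  rw [Functor.map_comp, map_map, hd, he]
  simp

theorem isRepresentable_of_equiv {F : 𝒳 ⥤ᵇ 𝒴} (hF : IsEquivOver F) (h : IsRepresentable 𝒳) :
    IsRepresentable 𝒴 := by
  obtain ⟨U, E, hE⟩ := h
  obtain ⟨G, hG, -, -⟩ := isEquivOver_symm hF
  exact ⟨U, BasedFunctor.comp G E, isEquivOver_comp hG hE⟩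

theorem isRepresentable_of_equiv' {F : 𝒳 ⥤ᵇ 𝒴} (hF : IsEquivOver F) (h : IsRepresentable 𝒴) :
    IsRepresentable 𝒳 := by
  obtain ⟨U, E, hE⟩ := h
  exact ⟨U, BasedFunctor.comp F E, isEquivOver_comp hF hE⟩

lemma isEquivOver_id : IsEquivOver (BasedFunctor.id 𝒳) :=
  ⟨BasedFunctor.id 𝒳, ⟨Iso.refl _⟩, ⟨Iso.refl _⟩⟩

section fpMap

variable {𝒳' : BasedCategory.{v₅, u₅} C} {𝒴' : BasedCategory.{v₆, u₆} C} {𝒮 : BasedCategory.{v₇, u₇} C}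
  {𝒮' : BasedCategory.{v₈, u₈} C}
variable {F : 𝒳 ⥤ᵇ 𝒮} {G : 𝒴 ⥤ᵇ 𝒮} (F' : 𝒳' ⥤ᵇ 𝒮') (G' : 𝒴' ⥤ᵇ 𝒮')
  (a : 𝒳' ⥤ᵇ 𝒳) (c : 𝒴' ⥤ᵇ 𝒴) (b : 𝒮' ⥤ᵇ 𝒮)
  (α : BasedFunctor.comp F' b ≅ BasedFunctor.comp a F)
  (β : BasedFunctor.comp G' b ≅ BasedFunctor.comp c G)

/-- The functor between fibre products induced by a morphism of cospans. -/
def fpMap : fp F' G' ⥤ᵇ fp F G :=
  fpLift (BasedFunctor.comp (fpFst F' G') a) (BasedFunctor.comp (fpSnd F' G') c)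
    ((Stk.restr (fpFst F' G') 𝒮).mapIso α.symm ≪≫ (post (fp F' G') b).mapIso (fpIso F' G') ≪≫
      (Stk.restr (fpSnd F' G') 𝒮).mapIso β)

lemma fpMap_iso (o : (fp F' G').obj) : ((fpMap F' G' a c b α β).obj o).obj.iso.hom =
    α.inv.toNatTrans.app o.obj.fst ≫ b.map o.obj.iso.hom ≫ β.hom.toNatTrans.app o.obj.snd := rfl

variable [a.toFunctor.Full] [a.toFunctor.Faithful] [c.toFunctor.Full] [c.toFunctor.Faithful]
  [b.toFunctor.Faithful]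

lemma fpMap_faithful : (fpMap F' G' a c b α β).toFunctor.Faithful :=
  ⟨fun {o o'} m m' h => ObjectProperty.hom_ext _ (CategoricalPullback.hom_ext
    (a.toFunctor.map_injective (congrArg (fun t => t.hom.fst) h))
    (c.toFunctor.map_injective (congrArg (fun t => t.hom.snd) h)))⟩

lemma fpMap_full : (fpMap F' G' a c b α β).toFunctor.Full :=
  ⟨fun {o o'} m => by
    obtain ⟨m₁, hm₁⟩ := a.toFunctor.map_surjective (X := o.obj.fst) (Y := o'.obj.fst) m.hom.fst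
    obtain ⟨m₂, hm₂⟩ := c.toFunctor.map_surjective (X := o.obj.snd) (Y := o'.obj.snd) m.hom.snd
    have hw : F'.map m₁ ≫ o'.obj.iso.hom = o.obj.iso.hom ≫ G'.map m₂ := by
      apply b.toFunctor.map_injective
      have w : F.map m.hom.fst ≫ ((fpMap F' G' a c b α β).obj o').obj.iso.hom =
          ((fpMap F' G' a c b α β).obj o).obj.iso.hom ≫ G.map m.hom.snd := m.hom.w
      rw [fpMap_iso, fpMap_iso, ← hm₁, ← hm₂] at w
      have n₁ : F.map (a.map m₁) ≫ α.inv.toNatTrans.app o'.obj.fst =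
          α.inv.toNatTrans.app o.obj.fst ≫ b.map (F'.map m₁) := α.inv.toNatTrans.naturality m₁
      have n₂ : b.map (G'.map m₂) ≫ β.hom.toNatTrans.app o'.obj.snd =
          β.hom.toNatTrans.app o.obj.snd ≫ G.map (c.map m₂) := β.hom.toNatTrans.naturality m₂
      simp only [Category.assoc] at w
      rw [reassoc_of% n₁, ← n₂] at w
      haveI : IsIso (α.inv.toNatTrans.app o.obj.fst) :=
        (((BasedNatTrans.forgetful _ _).mapIso α).app o.obj.fst).isIso_inv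
      haveI : IsIso (β.hom.toNatTrans.app o'.obj.snd) :=
        (((BasedNatTrans.forgetful _ _).mapIso β).app o'.obj.snd).isIso_hom
      rw [cancel_epi, ← Category.assoc, ← Category.assoc, cancel_mono] at w
      simpa only [Functor.map_comp] using w
    exact ⟨ObjectProperty.homMk ⟨m₁, m₂, hw⟩,
      ObjectProperty.hom_ext _ (CategoricalPullback.hom_ext hm₁ hm₂)⟩⟩

end fpMap

theorem isEquivOver_fpMap {𝒳' : BasedCategory.{v₅, u₅} C} {𝒴' : BasedCategory.{v₆, u₆} C}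
    {𝒮 : BasedCategory.{v₇, u₇} C} {𝒮' : BasedCategory.{v₈, u₈} C} {F : 𝒳 ⥤ᵇ 𝒮} {G : 𝒴 ⥤ᵇ 𝒮}
    (F' : 𝒳' ⥤ᵇ 𝒮') (G' : 𝒴' ⥤ᵇ 𝒮') (a : 𝒳' ⥤ᵇ 𝒳) (c : 𝒴' ⥤ᵇ 𝒴) (b : 𝒮' ⥤ᵇ 𝒮)
    (α : BasedFunctor.comp F' b ≅ BasedFunctor.comp a F)
    (β : BasedFunctor.comp G' b ≅ BasedFunctor.comp c G)
    (ha : IsEquivOver a) (hc : IsEquivOver c) [b.toFunctor.Full] [b.toFunctor.Faithful] :
    IsEquivOver (fpMap F' G' a c b α β) := by
  obtain ⟨hae, had⟩ := isEquivOver_data ha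
  obtain ⟨hce, hcd⟩ := isEquivOver_data hc
  haveI := fpMap_faithful F' G' a c b α β
  haveI := fpMap_full F' G' a c b α β
  refine isEquivOver_of_fullyFaithful _ fun η => ?_
  obtain ⟨x, e₁, h₁, he₁⟩ := had η.obj.fst
  obtain ⟨y, e₂, h₂, he₂⟩ := hcd η.obj.snd
  let αx : b.obj (F'.obj x) ≅ F.obj (a.obj x) := ((BasedNatTrans.forgetful _ _).mapIso α).app x
  let βy : b.obj (G'.obj y) ≅ G.obj (c.obj y) := ((BasedNatTrans.forgetful _ _).mapIso β).app y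
  let j : b.obj (F'.obj x) ≅ b.obj (G'.obj y) :=
    αx ≪≫ F.toFunctor.mapIso e₁ ≪≫ η.obj.iso ≪≫ (G.toFunctor.mapIso e₂).symm ≪≫ βy.symm
  obtain ⟨q, hq⟩ := map_iso_hom η
  have hαx : 𝒮.p.map αx.hom = eqToHom _ := map_app α.hom x
  have hβy : 𝒮.p.map βy.inv = eqToHom _ := map_app β.inv y
  have he₂' : 𝒴.p.map e₂.inv = eqToHom h₂.symm := by
    rw [← IsIso.Iso.inv_hom e₂]; exact map_inv_of_eqToHom _ he₂
  have hxy : 𝒳'.p.obj x = 𝒴'.p.obj y :=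
    ((a.w_obj x).symm.trans (h₁.trans ((fp_obj_eq η).symm.trans (h₂.symm.trans (c.w_obj y)))))
  have hj : 𝒮.p.map j.hom = eqToHom ((b.w_obj _).trans ((F'.w_obj x).trans (hxy.trans
      ((G'.w_obj y).symm.trans (b.w_obj _).symm)))) := by
    simp [j, Functor.map_comp, hαx, hβy, map_map, he₁, he₂', hq]
  have hi : 𝒮'.p.map (b.toFunctor.preimageIso j).hom =
      eqToHom ((F'.w_obj x).trans (hxy.trans (G'.w_obj y).symm)) := by
    have h := map_map b (b.toFunctor.preimageIso j).hom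
    rw [Functor.preimageIso_hom, Functor.map_preimage, hj] at h
    rw [Functor.preimageIso_hom]
    refine (cancel_mono (eqToHom (b.w_obj (G'.obj y)).symm)).1
      ((cancel_epi (eqToHom (b.w_obj (F'.obj x)))).1 ?_)
    rw [← h]
    simp
  refine ⟨⟨⟨x, y, b.toFunctor.preimageIso j⟩, fpProp_of_map F' G' _ _ hi⟩,
    ObjectProperty.isoMk _ (CategoricalPullback.mkIso e₁ e₂ ?_), h₁, he₁⟩
  rw [fpMap_iso]
  show F.map e₁.hom ≫ η.obj.iso.hom = (αx.inv ≫ b.map (b.toFunctor.preimageIso j).hom ≫ βy.hom) ≫ G.map e₂.hom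
  rw [Functor.preimageIso_hom, Functor.map_preimage]
  simp [j]

section pasting

variable {𝒰 : BasedCategory.{v₅, u₅} C}

/-- Pasting of fibre products: `(𝒰 ×_𝒵 𝒴) ×_𝒴 𝒳 ⟶ 𝒰 ×_𝒵 𝒳`. -/
def assocFun (G : 𝒰 ⥤ᵇ 𝒵) (g : 𝒴 ⥤ᵇ 𝒵) (f : 𝒳 ⥤ᵇ 𝒴) :
    fp (fpSnd G g) f ⥤ᵇ fp G (BasedFunctor.comp f g) :=
  fpLift (BasedFunctor.comp (fpFst (fpSnd G g) f) (fpFst G g)) (fpSnd (fpSnd G g) f)
    ((Stk.restr (fpFst (fpSnd G g) f) 𝒵).mapIso (fpIso G g) ≪≫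
      (post (fp (fpSnd G g) f) g).mapIso (fpIso (fpSnd G g) f))

theorem isEquivOver_assocFun (G : 𝒰 ⥤ᵇ 𝒵) (g : 𝒴 ⥤ᵇ 𝒵) (f : 𝒳 ⥤ᵇ 𝒴) :
    IsEquivOver (assocFun G g f) := by
  let Θ := assocFun G g f
  haveI : Θ.toFunctor.Faithful := ⟨fun {o o'} m m' h => by
    have h₁ : m.hom.fst.hom.fst = m'.hom.fst.hom.fst := congrArg (fun t => t.hom.fst) h
    have h₂ : m.hom.snd = m'.hom.snd := congrArg (fun t => t.hom.snd) h
    refine ObjectProperty.hom_ext _ (CategoricalPullback.hom_ext ?_ h₂)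
    refine ObjectProperty.hom_ext _ (CategoricalPullback.hom_ext h₁ ?_)
    have w : m.hom.fst.hom.snd ≫ o'.obj.iso.hom = o.obj.iso.hom ≫ f.map m.hom.snd := m.hom.w
    have w' : m'.hom.fst.hom.snd ≫ o'.obj.iso.hom = o.obj.iso.hom ≫ f.map m'.hom.snd := m'.hom.w
    rw [← cancel_mono o'.obj.iso.hom, w, w', h₂]⟩
  haveI : Θ.toFunctor.Full := ⟨fun {o o'} m => by
    let j : o.obj.fst.obj.snd ≅ f.obj o.obj.snd := o.obj.iso
    let j' : o'.obj.fst.obj.snd ≅ f.obj o'.obj.snd := o'.obj.iso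
    let n : o.obj.fst.obj.snd ⟶ o'.obj.fst.obj.snd := j.hom ≫ f.map m.hom.snd ≫ j'.inv
    have w : G.map m.hom.fst ≫ o'.obj.fst.obj.iso.hom ≫ g.map j'.hom =
        (o.obj.fst.obj.iso.hom ≫ g.map j.hom) ≫ g.map (f.map m.hom.snd) := m.hom.w
    have hn : G.map m.hom.fst ≫ o'.obj.fst.obj.iso.hom = o.obj.fst.obj.iso.hom ≫ g.map n := by
      rw [← cancel_mono (g.map j'.hom), Category.assoc, w]
      simp [n, ← Functor.map_comp]
    let mm : o.obj.fst ⟶ o'.obj.fst := ObjectProperty.homMk ⟨m.hom.fst, n, hn⟩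
    have hmm : n ≫ o'.obj.iso.hom = o.obj.iso.hom ≫ f.map m.hom.snd := by simp [n, j, j']
    exact ⟨ObjectProperty.homMk ⟨mm, m.hom.snd, hmm⟩,
      ObjectProperty.hom_ext _ (CategoricalPullback.hom_ext rfl rfl)⟩⟩
  refine isEquivOver_of_fullyFaithful Θ fun η => ?_
  obtain ⟨q, hq⟩ := map_iso_hom η
  let inner : (fp G g).obj :=
    ⟨⟨η.obj.fst, f.obj η.obj.snd, η.obj.iso⟩, fpProp_of_map G g _ q hq⟩
  refine ⟨⟨⟨inner, η.obj.snd, Iso.refl _⟩, fpProp_of_map (fpSnd G g) f _ rfl (𝒴.p.map_id _)⟩,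
    ObjectProperty.isoMk _ (CategoricalPullback.mkIso (Iso.refl _) (Iso.refl _) ?_), rfl,
    𝒰.p.map_id _⟩
  show G.map (𝟙 _) ≫ η.obj.iso.hom = (η.obj.iso.hom ≫ g.map (𝟙 _)) ≫ g.map (f.map (𝟙 _))
  simp only [CategoryTheory.Functor.map_id]
  exact (Category.id_comp _).trans ((Category.comp_id _).trans (Category.comp_id _)).symm

/-- Pasting of fibre products: `𝒰 ×_𝒵 (𝒵 ×_𝒴 𝒳) ⟶ 𝒰 ×_𝒴 𝒳`. -/
def pasteFun (G : 𝒰 ⥤ᵇ 𝒵) (g : 𝒵 ⥤ᵇ 𝒴) (f : 𝒳 ⥤ᵇ 𝒴) :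
    fp G (fpFst g f) ⥤ᵇ fp (BasedFunctor.comp G g) f :=
  fpLift (fpFst G (fpFst g f)) (BasedFunctor.comp (fpSnd G (fpFst g f)) (fpSnd g f))
    ((post (fp G (fpFst g f)) g).mapIso (fpIso G (fpFst g f)) ≪≫
      (Stk.restr (fpSnd G (fpFst g f)) 𝒴).mapIso (fpIso g f))

theorem isEquivOver_pasteFun (G : 𝒰 ⥤ᵇ 𝒵) (g : 𝒵 ⥤ᵇ 𝒴) (f : 𝒳 ⥤ᵇ 𝒴) :
    IsEquivOver (pasteFun G g f) := by
  let Θ := pasteFun G g f
  haveI : Θ.toFunctor.Faithful := ⟨fun {o o'} m m' h => by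
    have h₁ : m.hom.fst = m'.hom.fst := congrArg (fun t => t.hom.fst) h
    have h₂ : m.hom.snd.hom.snd = m'.hom.snd.hom.snd := congrArg (fun t => t.hom.snd) h
    refine ObjectProperty.hom_ext _ (CategoricalPullback.hom_ext h₁ ?_)
    refine ObjectProperty.hom_ext _ (CategoricalPullback.hom_ext ?_ h₂)
    have w : G.map m.hom.fst ≫ o'.obj.iso.hom = o.obj.iso.hom ≫ m.hom.snd.hom.fst := m.hom.w
    have w' : G.map m'.hom.fst ≫ o'.obj.iso.hom = o.obj.iso.hom ≫ m'.hom.snd.hom.fst := m'.hom.w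
    rw [← cancel_epi o.obj.iso.hom, ← w, ← w', h₁]⟩
  haveI : Θ.toFunctor.Full := ⟨fun {o o'} m => by
    let j : G.obj o.obj.fst ≅ o.obj.snd.obj.fst := o.obj.iso
    let j' : G.obj o'.obj.fst ≅ o'.obj.snd.obj.fst := o'.obj.iso
    let i : g.obj o.obj.snd.obj.fst ≅ f.obj o.obj.snd.obj.snd := o.obj.snd.obj.iso
    let i' : g.obj o'.obj.snd.obj.fst ≅ f.obj o'.obj.snd.obj.snd := o'.obj.snd.obj.iso
    let m₁ : o.obj.fst ⟶ o'.obj.fst := m.hom.fst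
    let m₂ : o.obj.snd.obj.snd ⟶ o'.obj.snd.obj.snd := m.hom.snd
    let n : o.obj.snd.obj.fst ⟶ o'.obj.snd.obj.fst := j.inv ≫ G.map m₁ ≫ j'.hom
    have w : g.map (G.map m₁) ≫ g.map j'.hom ≫ i'.hom =
        (g.map j.hom ≫ i.hom) ≫ f.map m₂ := m.hom.w
    have hn : g.map n ≫ i'.hom = i.hom ≫ f.map m₂ := by
      simp only [n, Functor.map_comp, Category.assoc]
      rw [w, Category.assoc]
      exact (g.toFunctor.mapIso j).inv_hom_id_assoc _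
    let mm : o.obj.snd ⟶ o'.obj.snd := ObjectProperty.homMk ⟨n, m₂, hn⟩
    have hmm : G.map m₁ ≫ j'.hom = j.hom ≫ n := by simp [n]
    exact ⟨ObjectProperty.homMk ⟨m₁, mm, hmm⟩,
      ObjectProperty.hom_ext _ (CategoricalPullback.hom_ext rfl rfl)⟩⟩
  refine isEquivOver_of_fullyFaithful Θ fun η => ?_
  obtain ⟨q, hq⟩ := map_iso_hom η
  let inner : (fp g f).obj :=
    ⟨⟨G.obj η.obj.fst, η.obj.snd, η.obj.iso⟩, fpProp_of_map g f _ q hq⟩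
  refine ⟨⟨⟨η.obj.fst, inner, Iso.refl _⟩, fpProp_of_map G (fpFst g f) _ rfl (𝒵.p.map_id _)⟩,
    ObjectProperty.isoMk _ (CategoricalPullback.mkIso (Iso.refl _) (Iso.refl _) ?_), rfl,
    𝒰.p.map_id _⟩
  show g.map (G.map (𝟙 _)) ≫ η.obj.iso.hom = (g.map (𝟙 _) ≫ η.obj.iso.hom) ≫ f.map (𝟙 _)
  simp

end pasting

end Groth.Agent.FibCat2Misc

end
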