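import Groth.Agent.FibCatRep.Inertia
import Groth.Agent.FibSetComp.Basic
import Groth.Agent.FibCat2Misc.Equiv

/-!
Categories fibred in setoids and in sets, cartesian morphisms, functor categories over the base.
-/

set_option autoImplicit false
set_option backward.isDefEq.respectTransparency false
set_option backward.isDefEq.respectTransparency.types false
set_option linter.style.haveILetI false
universe v₆ u₆ v₅ u₅ v₄ u₄ v₃ u₃ v₂ u₂ v u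

noncomputable section

namespace Groth.Agent.FibCat2Misc

open CategoryTheory CategoryTheory.Limits CategoryTheory.Functor FibCat Groth.Agent.FibCatRep
  Groth.Agent.StkBasic

variable {C : Type u} [Category.{v} C]

theorem isFibSetoid_iff {𝒳 : Type u₂} [Category.{v₂} 𝒳] {p : 𝒳 ⥤ C} :
    IsFibSetoid p ↔ IsFibGrpd p ∧ p.Faithful := by
  refine ⟨fun h => ⟨h.1, ⟨fun {y x} φ φ' e => ?_⟩⟩, fun h => ⟨h.1, fun U a b => ⟨fun m m' => ?_⟩⟩⟩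
  · obtain ⟨χ, ⟨hχ, hc⟩, -⟩ := existsUnique_cart h.1 φ' φ (𝟙 _) (by rw [Category.id_comp, e])
    let a : p.Fiber (p.obj y) := ⟨y, rfl⟩
    haveI : Subsingleton (a ⟶ a) := h.2 (p.obj y) a a
    have : χ = 𝟙 y :=
      congrArg Subtype.val (Subsingleton.elim (fibHom a a χ (by rw [hχ]; simp; rfl)) (𝟙 a))
    rw [← hc, this, Category.id_comp]
  · haveI := h.2
    exact Subtype.ext (p.map_injective ((map_of_fiber m).trans (map_of_fiber m').symm))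

lemma faithful_of_isFibSetoid {𝒳 : Type u₂} [Category.{v₂} 𝒳] {p : 𝒳 ⥤ C} (h : IsFibSetoid p) :
    p.Faithful := (isFibSetoid_iff.1 h).2

theorem isFibSet_iff_existsUnique {𝒳 : Type u₂} [Category.{v₂} 𝒳] (p : 𝒳 ⥤ C) :
    IsFibSet p ↔ ∀ (η : 𝒳) (U : C) (f : U ⟶ p.obj η),
      ∃! φ : (Σ ξ : 𝒳, (ξ ⟶ η)), p.IsHomLift f φ.2 := by
  constructor
  · intro h η U f
    obtain ⟨y, φ, hy, hφ⟩ := exists_lift h.1 (x := η) f
    refine ⟨⟨y, φ⟩, IsHomLift.of_fac' p f φ hy rfl (hφ.trans (by simp)), fun ψ hψ => ?_⟩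
    obtain ⟨z, ψ⟩ := ψ
    haveI : p.IsHomLift f ψ := hψ
    have hz : p.obj z = U := IsHomLift.domain_eq p f ψ
    have hψ' : p.map ψ = eqToHom hz ≫ f := (IsHomLift.fac' p f ψ).trans (by simp)
    obtain ⟨h', e⟩ := FibSetComp.unique_lift h ψ φ (hz.trans hy.symm) (by simp [hψ', hφ])
    subst h'
    rw [eqToHom_refl, Category.id_comp] at e
    rw [e]
  · intro h
    have uniq : ∀ {z z' η : 𝒳} (φ : z ⟶ η) (φ' : z' ⟶ η) (e : p.obj z = p.obj z'),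
        p.map φ = eqToHom e ≫ p.map φ' → ∃ e' : z = z', φ = eqToHom e' ≫ φ' := by
      intro z z' η φ φ' e he
      have h₁ : p.IsHomLift (p.map φ') φ := IsHomLift.of_fac' p _ φ e rfl (he.trans (by simp))
      have h₂ : p.IsHomLift (p.map φ') φ' := inferInstance
      have hs := (h η _ (p.map φ')).unique (y₁ := ⟨z, φ⟩) (y₂ := ⟨z', φ'⟩) h₁ h₂
      obtain ⟨rfl, hh⟩ := Sigma.mk.inj_iff.1 hs
      exact ⟨rfl, by simpa using eq_of_heq hh⟩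
    refine ⟨isFibGrpd_mk (fun {x V} f => ?_) (fun {z y x} φ ψ g hg => ?_), fun U =>
      { eq_of_hom := fun {a b} m => ?_, subsingleton := fun a b => ⟨fun m m' => ?_⟩ }⟩
    · obtain ⟨⟨y, φ⟩, hφ, -⟩ := h x V f
      haveI : p.IsHomLift f φ := hφ
      exact ⟨y, φ, IsHomLift.domain_eq p f φ, (IsHomLift.fac' p f φ).trans (by simp)⟩
    · obtain ⟨⟨z', χ⟩, hχ, -⟩ := h y (p.obj z) g
      haveI : p.IsHomLift g χ := hχ
      have hz : p.obj z' = p.obj z := IsHomLift.domain_eq p g χ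
      have hχ' : p.map χ = eqToHom hz ≫ g := (IsHomLift.fac' p g χ).trans (by simp)
      obtain ⟨e, he⟩ := uniq (χ ≫ φ) ψ hz (by simp [hχ', hg])
      subst e
      rw [eqToHom_refl, Category.id_comp] at he
      refine ⟨χ, ⟨by simpa using hχ', he⟩, fun χ' hc => ?_⟩
      obtain ⟨e', he'⟩ := uniq χ' χ rfl (by rw [hc.1]; simp [hχ'])
      simpa using he'
    · obtain ⟨e, he⟩ := uniq m.1 m'.1 rfl (by simp [map_of_fiber m, map_of_fiber m'])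
      exact Subtype.ext (by simpa using he)
    · obtain ⟨e, -⟩ := uniq m.1 (𝟙 b.1) (a.2.trans b.2.symm) (by simp [map_of_fiber m])
      exact Subtype.ext e

theorem isFibSet_overForget (U : C) : IsFibSet (Over.forget U) := by
  refine ⟨isFibGrpd_overCat U, fun V =>
    { subsingleton := fun a b => ⟨fun m m' => Subtype.ext (Over.OverMorphism.ext
        ((map_of_fiber m).trans (map_of_fiber m').symm))⟩
      eq_of_hom := fun {a b} m => Subtype.ext ?_ }⟩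
  have e : m.1.left = eqToHom (a.2.trans b.2.symm) := map_of_fiber m
  have w : m.1.left ≫ b.1.hom = a.1.hom := Over.w m.1
  rw [e] at w
  obtain ⟨⟨A, ⟨⟨⟩⟩, γ⟩, hA⟩ := a
  obtain ⟨⟨B, ⟨⟨⟩⟩, δ⟩, hB⟩ := b
  obtain rfl : A = B := hA.trans hB.symm
  obtain rfl : δ = γ := (Category.id_comp δ).symm.trans w
  rfl

section based

variable {𝒳 : BasedCategory.{v₂, u₂} C} {𝒴 : BasedCategory.{v₃, u₃} C} {𝒮 : BasedCategory.{v₄, u₄} C}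

lemma faithful_p_of_comp (F : 𝒳 ⥤ᵇ 𝒴) [F.toFunctor.Faithful] [𝒴.p.Faithful] : 𝒳.p.Faithful := by
  rw [← F.w]
  infer_instance

theorem isFibSetoid_of_equiv {F : 𝒳 ⥤ᵇ 𝒴} (hF : IsEquivOver F) (h : IsFibSetoid 𝒳.p) :
    IsFibSetoid 𝒴.p := by
  obtain ⟨h₁, h₂⟩ := isFibSetoid_iff.1 h
  obtain ⟨G, hG, -, -⟩ := isEquivOver_symm hF
  haveI := (isEquivOver_data hG).1
  haveI := h₂
  exact isFibSetoid_iff.2 ⟨StkBasic.isFibGrpd hF h₁, faithful_p_of_comp G⟩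

theorem isFibSetoid_fp_of_faithful (h𝒳 : IsFibGrpd 𝒳.p) (h𝒴 : IsFibSetoid 𝒴.p) (h𝒮 : IsFibGrpd 𝒮.p)
    (F : 𝒳 ⥤ᵇ 𝒮) [F.toFunctor.Faithful] (G : 𝒴 ⥤ᵇ 𝒮) : IsFibSetoid (fp F G).p := by
  haveI := faithful_of_isFibSetoid h𝒴
  refine isFibSetoid_iff.2 ⟨isFibGrpd_fp h𝒳 h𝒴.1 h𝒮 F G, ⟨fun {o o'} m m' h => ?_⟩⟩
  have h₂ : m.hom.snd = m'.hom.snd := 𝒴.p.map_injective (by
    rw [map_snd m, map_snd m', show 𝒳.p.map m.hom.fst = 𝒳.p.map m'.hom.fst from h])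
  refine ObjectProperty.hom_ext _ (CategoricalPullback.hom_ext (F.toFunctor.map_injective ?_) h₂)
  rw [← cancel_mono o'.obj.iso.hom, m.hom.w, m'.hom.w, h₂]

theorem isFibSetoid_fp (h𝒳 : IsFibSetoid 𝒳.p) (h𝒴 : IsFibSetoid 𝒴.p) (h𝒮 : IsFibGrpd 𝒮.p)
    (F : 𝒳 ⥤ᵇ 𝒮) (G : 𝒴 ⥤ᵇ 𝒮) : IsFibSetoid (fp F G).p := by
  haveI := faithful_of_isFibSetoid h𝒳
  haveI := faithful_of_isFibSetoid h𝒴
  refine isFibSetoid_iff.2 ⟨isFibGrpd_fp h𝒳.1 h𝒴.1 h𝒮 F G, ⟨fun {o o'} m m' h => ?_⟩⟩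
  have h₁ : m.hom.fst = m'.hom.fst := 𝒳.p.map_injective h
  exact ObjectProperty.hom_ext _ (CategoricalPullback.hom_ext h₁ (𝒴.p.map_injective (by
    rw [map_snd m, map_snd m', h₁])))

theorem isFibGrpd_fpFst_slice (h𝒳 : IsFibGrpd 𝒳.p) (h𝒴 : IsFibGrpd 𝒴.p) (F : 𝒳 ⥤ᵇ 𝒴) (U : C)
    (G : overCat U ⥤ᵇ 𝒴) : IsFibGrpd (fpFst G F).toFunctor :=
  (FibSetComp.isFibGrpd_iff (isFibSet_overForget U) _).2
    (isFibGrpd_fp (isFibGrpd_overCat U) h𝒳 h𝒴 G F)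

theorem isFibGrpd_fpSnd_id (h𝒳 : IsFibGrpd 𝒳.p) (h𝒴 : IsFibGrpd 𝒴.p) (F : 𝒳 ⥤ᵇ 𝒴) :
    IsFibGrpd (fpSnd F (BasedFunctor.id 𝒴)).toFunctor := by
  refine isFibGrpd_mk (fun {o y} f => ?_) (fun {o'' o' o} φ ψ g hg => ?_)
  · let f' : y ⟶ o.obj.snd := f
    obtain ⟨x, φ, hx, hφ⟩ := exists_lift h𝒳 (x := o.obj.fst) (𝒴.p.map f' ≫ eqToHom (fp_obj_eq o))
    obtain ⟨q, hq⟩ := map_iso_hom o
    change 𝒴.p.map o.obj.iso.hom = eqToHom _ at hq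
    have hxy : 𝒴.p.obj (F.obj x) = 𝒴.p.obj y := (F.w_obj x).trans hx
    obtain ⟨χ, ⟨hχ, hc⟩, -⟩ := existsUnique_cart h𝒴 f' (F.map φ ≫ o.obj.iso.hom) (eqToHom hxy)
      (by rw [Functor.map_comp, map_map, hφ, hq]; simp)
    haveI : IsIso (𝒴.p.map χ) := by rw [hχ]; infer_instance
    haveI := isIso_of_map h𝒴 χ
    exact ⟨⟨⟨x, y, asIso χ⟩, fpProp_of_map F (BasedFunctor.id 𝒴) _ hxy hχ⟩,
      ObjectProperty.homMk ⟨φ, f', hc.symm⟩, rfl, (Category.id_comp _).symm⟩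
  · let g' : o''.obj.snd ⟶ o'.obj.snd := g
    have hg' : g' ≫ φ.hom.snd = ψ.hom.snd := hg
    have hp : (eqToHom (fp_obj_eq o'').symm ≫ 𝒴.p.map g' ≫ eqToHom (fp_obj_eq o')) ≫ 𝒳.p.map φ.hom.fst =
        𝒳.p.map ψ.hom.fst := by
      have e := congrArg 𝒴.p.map hg'
      rw [Functor.map_comp, map_snd φ, map_snd ψ] at e
      rw [← cancel_epi (eqToHom (fp_obj_eq o'')), ← cancel_mono (eqToHom (fp_obj_eq o).symm)]
      simp only [Category.assoc] at e ⊢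
      rw [← e]
      simp
    obtain ⟨χ, ⟨hχ, hc⟩, hu⟩ :=
      existsUnique_cart (isFibGrpd_fp h𝒳 h𝒴 h𝒴 F (BasedFunctor.id 𝒴)) φ ψ _ hp
    refine ⟨χ, ⟨cancel h𝒴 φ.hom.snd ?_ ?_, hc⟩, fun χ' hχ' => hu χ' ⟨?_, hχ'.2⟩⟩
    · show 𝒴.p.map χ.hom.snd = 𝒴.p.map g'
      rw [map_snd χ, show 𝒳.p.map χ.hom.fst = _ from hχ]
      simp
    · show χ.hom.snd ≫ φ.hom.snd = g' ≫ φ.hom.snd
      rw [hg', ← hc]
      rfl
    · show 𝒳.p.map χ'.hom.fst = _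
      have e : 𝒴.p.map χ'.hom.snd = 𝒴.p.map g' := congrArg 𝒴.p.map hχ'.1
      rw [map_snd χ'] at e
      rw [← e]
      simp

theorem isFibSetoid_fpFst_diag {U : C} (h𝒮 : IsFibGrpd 𝒮.p) (H : overCat U ⥤ᵇ fp (toSelf 𝒮) (toSelf 𝒮)) :
    IsFibSetoid (fpFst H (FibCat.diag (toSelf 𝒮))).toFunctor := by
  refine isFibSetoid_iff.2 ⟨(FibSetComp.isFibGrpd_iff (isFibSet_overForget U) _).2
    (isFibGrpd_fp (isFibGrpd_overCat U) h𝒮 (isFibGrpd_fp h𝒮 h𝒮 isFibGrpd_selfOver _ _) H _),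
    ⟨fun {o o'} m m' h => ?_⟩⟩
  have h₁ : m.hom.fst = m'.hom.fst := h
  refine ObjectProperty.hom_ext _ (CategoricalPullback.hom_ext h₁ ?_)
  have w : (H.map m.hom.fst).hom.fst ≫ o'.obj.iso.hom.hom.fst = o.obj.iso.hom.hom.fst ≫ m.hom.snd :=
    congrArg (fun t => t.hom.fst) m.hom.w
  have w' : (H.map m'.hom.fst).hom.fst ≫ o'.obj.iso.hom.hom.fst = o.obj.iso.hom.hom.fst ≫ m'.hom.snd :=
    congrArg (fun t => t.hom.fst) m'.hom.w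
  haveI : IsIso o.obj.iso.hom.hom.fst :=
    ((fpFst (toSelf 𝒮) (toSelf 𝒮)).toFunctor.mapIso o.obj.iso).isIso_hom
  rw [← cancel_epi o.obj.iso.hom.hom.fst, ← w, ← w', h₁]

lemma isHomLift_of_map {a b : 𝒳.obj} (φ : a ⟶ b) {R : C} (ha : 𝒳.p.obj a = R) (hb : 𝒳.p.obj b = R)
    (h : 𝒳.p.map φ = eqToHom (ha.trans hb.symm)) : 𝒳.p.IsHomLift (𝟙 R) φ :=
  IsHomLift.of_fac' 𝒳.p _ φ ha hb (h.trans (by simp))

theorem isCartesian_map_iff (F : 𝒳 ⥤ᵇ 𝒴) (hF : IsEquivOver F) {a b : 𝒳.obj} (φ : a ⟶ b) :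
    𝒴.p.IsCartesian (𝒳.p.map φ) (F.map φ) ↔ 𝒳.p.IsCartesian (𝒳.p.map φ) φ := by
  obtain ⟨hFe, hd⟩ := isEquivOver_data hF
  haveI := hFe
  constructor
  · intro h
    refine { universal_property := fun {a'} ψ hψ => ?_ }
    obtain ⟨χ, ⟨hχ, hc⟩, hu⟩ := h.universal_property (F.map ψ)
    refine ⟨F.toFunctor.preimage χ, ⟨(BasedFunctor.isHomLift_iff F _ _).1 (by rw [Functor.map_preimage]; exact hχ),
      F.toFunctor.map_injective (by simp [hc])⟩, fun χ' ⟨h', hc'⟩ => F.toFunctor.map_injective ?_⟩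
    rw [Functor.map_preimage]
    exact hu _ ⟨(BasedFunctor.isHomLift_iff F _ _).2 h', by rw [← Functor.map_comp, hc']⟩
  · intro h
    haveI : 𝒴.p.IsHomLift (𝒳.p.map φ) (F.map φ) := (BasedFunctor.isHomLift_iff F _ _).2 inferInstance
    refine { universal_property := fun {η} ψ hψ => ?_ }
    obtain ⟨ξ, e, hξ, he⟩ := hd η
    have hη : 𝒴.p.obj η = 𝒳.p.obj a := IsHomLift.domain_eq 𝒴.p (𝒳.p.map φ) ψ
    haveI he' : 𝒴.p.IsHomLift (𝟙 (𝒳.p.obj a)) e.hom := isHomLift_of_map e.hom (hξ.trans hη) hη he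
    haveI he'' : 𝒴.p.IsHomLift (𝟙 (𝒳.p.obj a)) e.inv :=
      IsHomLift.lift_id_inv 𝒴.p (𝒳.p.obj a) e
    obtain ⟨ψ₀, hψ₀⟩ := F.toFunctor.map_surjective (e.hom ≫ ψ)
    haveI : 𝒳.p.IsHomLift (𝒳.p.map φ) ψ₀ :=
      (BasedFunctor.isHomLift_iff F _ _).1 (by rw [hψ₀]; infer_instance)
    obtain ⟨χ, ⟨hχ, hc⟩, hu⟩ := h.universal_property ψ₀
    haveI : 𝒴.p.IsHomLift (𝟙 (𝒳.p.obj a)) (F.map χ) := (BasedFunctor.isHomLift_iff F _ _).2 hχ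
    refine ⟨e.inv ≫ F.map χ, ⟨inferInstance, by
      rw [Category.assoc, ← Functor.map_comp, hc, hψ₀]; simp⟩, fun χ' ⟨h', hc'⟩ => ?_⟩
    haveI := h'
    obtain ⟨χ₀, hχ₀⟩ := F.toFunctor.map_surjective (e.hom ≫ χ')
    have hl : 𝒳.p.IsHomLift (𝟙 (𝒳.p.obj a)) χ₀ :=
      (BasedFunctor.isHomLift_iff F _ _).1 (by rw [hχ₀]; infer_instance)
    rw [← hu χ₀ ⟨hl, F.toFunctor.map_injective (by rw [Functor.map_comp, hχ₀, Category.assoc, hc', hψ₀])⟩,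
      hχ₀, Iso.inv_hom_id_assoc]

lemma iso_self_eq (z : (fp (toSelf 𝒳) (toSelf 𝒴)).obj) :
    z.obj.iso.hom = eqToHom (fp_obj_eq z).symm := by
  obtain ⟨k, hk⟩ := map_iso_hom z
  exact hk

/-- A morphism of the fibre product over the base from components lying over the same morphism. -/
def homSelf {z y : (fp (toSelf 𝒳) (toSelf 𝒴)).obj} (α : z.obj.fst ⟶ y.obj.fst) (β : z.obj.snd ⟶ y.obj.snd)
    (h : 𝒴.p.map β = eqToHom (fp_obj_eq z) ≫ 𝒳.p.map α ≫ eqToHom (fp_obj_eq y).symm) : z ⟶ y :=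
  ObjectProperty.homMk ⟨α, β, by
    show 𝒳.p.map α ≫ y.obj.iso.hom = z.obj.iso.hom ≫ 𝒴.p.map β
    rw [iso_self_eq, iso_self_eq, h]
    simp⟩

/-- An object of the fibre product over the base. -/
def objSelf (a : 𝒳.obj) (b : 𝒴.obj) (h : 𝒳.p.obj a = 𝒴.p.obj b) : (fp (toSelf 𝒳) (toSelf 𝒴)).obj :=
  ⟨⟨a, b, eqToIso h⟩, fpProp_of_map (toSelf 𝒳) (toSelf 𝒴) _ h rfl⟩

theorem isCartesian_fp_self_iff {x y : (fp (toSelf 𝒳) (toSelf 𝒴)).obj} (φ : x ⟶ y) :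
    (fp (toSelf 𝒳) (toSelf 𝒴)).p.IsCartesian ((fp (toSelf 𝒳) (toSelf 𝒴)).p.map φ) φ ↔
      𝒳.p.IsCartesian (𝒳.p.map φ.hom.fst) φ.hom.fst ∧ 𝒴.p.IsCartesian (𝒴.p.map φ.hom.snd) φ.hom.snd := by
  let P := fp (toSelf 𝒳) (toSelf 𝒴)
  have hlift : ∀ {z w : P.obj} {R S : C} (f : R ⟶ S) (m : z ⟶ w),
      P.p.IsHomLift f m ↔ 𝒳.p.IsHomLift f m.hom.fst := fun {z w R S} f m => by
    constructor <;> intro h <;> haveI := h
    · exact IsHomLift.of_fac' 𝒳.p f m.hom.fst (IsHomLift.domain_eq P.p f m)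
        (IsHomLift.codomain_eq P.p f m) (IsHomLift.fac' P.p f m)
    · exact IsHomLift.of_fac' P.p f m (IsHomLift.domain_eq 𝒳.p f m.hom.fst)
        (IsHomLift.codomain_eq 𝒳.p f m.hom.fst) (IsHomLift.fac' 𝒳.p f m.hom.fst)
  have hsnd := map_snd φ
  constructor
  · intro h
    refine ⟨{ universal_property := fun {a'} ψ hψ => ?_ }, { universal_property := fun {b'} ψ hψ => ?_ }⟩
    · have ha : 𝒳.p.obj a' = 𝒳.p.obj x.obj.fst := IsHomLift.domain_eq 𝒳.p (𝒳.p.map φ.hom.fst) ψ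
      have hψ' := IsHomLift.fac' 𝒳.p (𝒳.p.map φ.hom.fst) ψ
      let z : P.obj := objSelf a' x.obj.snd (ha.trans (fp_obj_eq x).symm)
      let m : z ⟶ y := homSelf ψ φ.hom.snd (by
        show 𝒴.p.map φ.hom.snd = eqToHom _ ≫ 𝒳.p.map ψ ≫ _
        rw [hsnd, hψ']; simp)
      haveI : P.p.IsHomLift (P.p.map φ) m := (hlift (P.p.map φ) m).2 hψ
      obtain ⟨χ, ⟨hχ, hc⟩, hu⟩ := h.universal_property m
      refine ⟨χ.hom.fst, ⟨(hlift _ χ).1 hχ, congrArg (fun t => t.hom.fst) hc⟩, fun χ' ⟨h', hc'⟩ => ?_⟩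
      haveI := h'
      let χ₂ : z ⟶ x := homSelf χ' (𝟙 x.obj.snd) (by
        have := IsHomLift.fac' 𝒳.p (𝟙 (𝒳.p.obj x.obj.fst)) χ'
        show 𝒴.p.map (𝟙 x.obj.snd) = eqToHom _ ≫ 𝒳.p.map χ' ≫ _
        rw [this]; simp)
      exact congrArg (fun t => t.hom.fst) (hu χ₂ ⟨(hlift _ χ₂).2 h', ObjectProperty.hom_ext _
        (CategoricalPullback.hom_ext hc' (Category.id_comp _))⟩)
    · have hb : 𝒴.p.obj b' = 𝒴.p.obj x.obj.snd := IsHomLift.domain_eq 𝒴.p (𝒴.p.map φ.hom.snd) ψ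
      have hψ' := IsHomLift.fac' 𝒴.p (𝒴.p.map φ.hom.snd) ψ
      let z : P.obj := objSelf x.obj.fst b' ((fp_obj_eq x).symm.trans hb.symm)
      let m : z ⟶ y := homSelf φ.hom.fst ψ (by
        show 𝒴.p.map ψ = eqToHom _ ≫ 𝒳.p.map φ.hom.fst ≫ _
        simp [hψ', hsnd])
      haveI : P.p.IsHomLift (P.p.map φ) m := (hlift (P.p.map φ) m).2 (inferInstanceAs (𝒳.p.IsHomLift (𝒳.p.map φ.hom.fst) φ.hom.fst))
      obtain ⟨χ, ⟨hχ, hc⟩, hu⟩ := h.universal_property m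
      have h₁ : 𝒳.p.IsHomLift (𝟙 (𝒳.p.obj x.obj.fst)) χ.hom.fst := (hlift _ χ).1 hχ
      haveI := h₁
      refine ⟨χ.hom.snd, ⟨isHomLift_of_map χ.hom.snd hb rfl ?_, congrArg (fun t => t.hom.snd) hc⟩,
        fun χ' ⟨h', hc'⟩ => ?_⟩
      · rw [map_snd χ, IsHomLift.fac' 𝒳.p (𝟙 (𝒳.p.obj x.obj.fst)) χ.hom.fst]
        simp
        exact (congrArg (eqToHom _ ≫ ·) (Category.id_comp _)).trans (eqToHom_trans _ _)
      · haveI := h'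
        let χ₂ : z ⟶ x := homSelf (𝟙 x.obj.fst) χ' (by
          show 𝒴.p.map χ' = eqToHom _ ≫ 𝒳.p.map (𝟙 x.obj.fst) ≫ _
          rw [IsHomLift.fac' 𝒴.p (𝟙 (𝒴.p.obj x.obj.snd)) χ']; simp)
        exact congrArg (fun t => t.hom.snd) (hu χ₂ ⟨(hlift _ χ₂).2 (IsHomLift.id rfl),
          ObjectProperty.hom_ext _ (CategoricalPullback.hom_ext (Category.id_comp _) hc')⟩)
  · rintro ⟨h₁, h₂⟩
    refine { universal_property := fun {z} ψ hψ => ?_ }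
    have hψ₁ : 𝒳.p.IsHomLift (𝒳.p.map φ.hom.fst) ψ.hom.fst := (hlift _ ψ).1 hψ
    haveI := hψ₁
    have hz : 𝒳.p.obj z.obj.fst = 𝒳.p.obj x.obj.fst := IsHomLift.domain_eq 𝒳.p (𝒳.p.map φ.hom.fst) ψ.hom.fst
    have hz₂ : 𝒴.p.obj z.obj.snd = 𝒴.p.obj x.obj.snd := (fp_obj_eq z).trans (hz.trans (fp_obj_eq x).symm)
    haveI hψ₂ : 𝒴.p.IsHomLift (𝒴.p.map φ.hom.snd) ψ.hom.snd := by
      refine IsHomLift.of_fac' 𝒴.p _ _ hz₂ rfl ?_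
      rw [map_snd ψ, IsHomLift.fac' 𝒳.p (𝒳.p.map φ.hom.fst) ψ.hom.fst, hsnd]
      simp
    obtain ⟨χ₁, ⟨hχ₁, c₁⟩, u₁⟩ := h₁.universal_property ψ.hom.fst
    obtain ⟨χ₂, ⟨hχ₂, c₂⟩, u₂⟩ := h₂.universal_property ψ.hom.snd
    haveI := hχ₁
    haveI := hχ₂
    let χ : z ⟶ x := homSelf χ₁ χ₂ (by
      rw [IsHomLift.fac' 𝒳.p (𝟙 (𝒳.p.obj x.obj.fst)) χ₁, IsHomLift.fac' 𝒴.p (𝟙 (𝒴.p.obj x.obj.snd)) χ₂]
      simp)
    refine ⟨χ, ⟨(hlift _ χ).2 hχ₁, ObjectProperty.hom_ext _ (CategoricalPullback.hom_ext c₁ c₂)⟩,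
      fun χ' ⟨h', hc'⟩ => ObjectProperty.hom_ext _ (CategoricalPullback.hom_ext ?_ ?_)⟩
    · exact u₁ _ ⟨(hlift _ χ').1 h', by rw [← hc']; rfl⟩
    · haveI : 𝒳.p.IsHomLift (𝟙 (𝒳.p.obj x.obj.fst)) χ'.hom.fst := (hlift _ χ').1 h'
      refine u₂ _ ⟨isHomLift_of_map χ'.hom.snd hz₂ rfl ?_, by rw [← hc']; rfl⟩
      rw [map_snd χ', IsHomLift.fac' 𝒳.p (𝟙 (𝒳.p.obj x.obj.fst)) χ'.hom.fst]
      simp

theorem nonempty_unique_iso (h𝒴 : IsFibSetoid 𝒴.p) (f g : 𝒳 ⥤ᵇ 𝒴)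
    (hfg : ∀ (U : C) (x : 𝒳.p.Fiber U), Nonempty ((fiberFunctor f U).obj x ≅ (fiberFunctor g U).obj x)) :
    Nonempty (Unique (f ≅ g)) := by
  haveI := faithful_of_isFibSetoid h𝒴
  let φ : ∀ x : 𝒳.obj, f.obj x ≅ g.obj x := fun x =>
    Functor.Fiber.fiberInclusion.mapIso (hfg (𝒳.p.obj x) ⟨x, rfl⟩).some
  have hφ : ∀ x, 𝒴.p.map (φ x).hom = eqToHom ((f.w_obj x).trans (g.w_obj x).symm) := fun x =>
    map_of_fiber (hfg (𝒳.p.obj x) ⟨x, rfl⟩).some.hom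
  let e : f ≅ g := BasedNatIso.mkNatIso (NatIso.ofComponents φ (fun {x y} m => 𝒴.p.map_injective (by
    rw [Functor.map_comp, Functor.map_comp, hφ, hφ, map_map, map_map]
    simp)))
    (fun x => isHomLift_of_map _ (f.w_obj x) (g.w_obj x) (hφ x))
  refine ⟨⟨⟨e⟩, fun e' => Iso.ext ?_⟩⟩
  apply BasedNatTrans.homCategory.ext
  ext x
  exact 𝒴.p.map_injective ((map_app e'.hom x).trans (map_app e.hom x).symm)

lemma isEquivalence_restr {φ : 𝒳 ⥤ᵇ 𝒴} (hφ : IsEquivOver φ) (𝒵 : BasedCategory.{v₄, u₄} C) :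
    (Stk.restr φ 𝒵).IsEquivalence := by
  obtain ⟨G, -, ⟨e₁⟩, ⟨e₂⟩⟩ := isEquivOver_symm hφ
  exact (CategoryTheory.Equivalence.mk (Stk.restr φ 𝒵) (Stk.restr G 𝒵)
    (NatIso.ofComponents (fun a => ((post _ a).mapIso e₂).symm) (fun {a b} α => by
      apply BasedNatTrans.homCategory.ext
      ext x
      exact (α.toNatTrans.naturality (e₂.inv.toNatTrans.app x)).symm))
    (NatIso.ofComponents (fun a => (post _ a).mapIso e₁) (fun {a b} α => by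
      apply BasedNatTrans.homCategory.ext
      ext x
      exact (α.toNatTrans.naturality (e₁.hom.toNatTrans.app x)).symm))).isEquivalence_functor

end based

theorem isEquivalence_pre_post {𝒮₁ 𝒮₂ 𝒮₃ 𝒮₄ : BasedCategory.{v₂, u₂} C} (φ : 𝒮₁ ⟶ 𝒮₂) (ψ : 𝒮₃ ⟶ 𝒮₄)
    (hφ : IsEquivOver φ) (hψ : IsEquivOver ψ) :
    (Bicategory.precomp 𝒮₃ φ ⋙ Bicategory.postcomp 𝒮₁ ψ).IsEquivalence := by
  haveI : (Bicategory.precomp 𝒮₃ φ).IsEquivalence := isEquivalence_restr hφ 𝒮₃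
  haveI : (Bicategory.postcomp 𝒮₁ ψ).IsEquivalence := isEquivalence_post 𝒮₁ hψ
  infer_instance

end Groth.Agent.FibCat2Misc

end
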