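import Groth.Agent.FibCat2Misc.Equiv
import Mathlib.CategoryTheory.Sites.SheafOfTypes
import Mathlib.CategoryTheory.Yoneda

/-!
The category fibred in sets of a presheaf is a stack iff the presheaf is a sheaf.
-/

set_option autoImplicit false
set_option backward.isDefEq.respectTransparency false
set_option backward.isDefEq.respectTransparency.types false
set_option linter.style.haveILetI false
universe w v₂ u₂ v u

noncomputable section

namespace Groth.Agent.FibCat2Misc

open CategoryTheory Opposite FibCat Groth.Agent.FibCatRep Groth.Agent.StkBasic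

variable {C : Type u} [Category.{v} C] {P : Cᵒᵖ ⥤ Type w} {𝒜 : BasedCategory.{v₂, u₂} C}

lemma map_map_sec {A B D : C} (f : A ⟶ B) (g : B ⟶ D) (x : P.obj (op D)) :
    P.map f.op (P.map g.op x) = P.map (f ≫ g).op x := by
  rw [op_comp, Functor.map_comp_apply]

/-- The section attached to an object of the source. -/
def secVal (a : 𝒜 ⥤ᵇ Stk.ofPsh P) (z : 𝒜.obj) : P.obj (op (𝒜.p.obj z)) :=
  P.map (eqToHom (a.w_obj z).symm).op (a.obj z).sec

lemma secVal_map (a : 𝒜 ⥤ᵇ Stk.ofPsh P) {z z' : 𝒜.obj} (n : z ⟶ z') :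
    P.map (𝒜.p.map n).op (secVal a z') = secVal a z := by
  have h : (a.map n).hom = eqToHom (a.w_obj z) ≫ 𝒜.p.map n ≫ eqToHom (a.w_obj z').symm := map_map a n
  refine (map_map_sec (𝒜.p.map n) (eqToHom (a.w_obj z').symm) (a.obj z').sec).trans ?_
  refine Eq.trans ?_ ((map_map_sec (eqToHom (a.w_obj z).symm) (a.map n).hom (a.obj z').sec).symm.trans
    (congrArg (P.map (eqToHom (a.w_obj z).symm).op) (a.map n).map_sec))
  refine congrArg (fun k => P.map (Quiver.Hom.op k) (a.obj z').sec) ?_
  rw [h]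
  exact ((Category.assoc _ _ _).symm.trans (by rw [eqToHom_trans, eqToHom_refl, Category.id_comp])).symm

/-- The functor over the base given by a compatible family of sections. -/
def mkPsh (x : ∀ z : 𝒜.obj, P.obj (op (𝒜.p.obj z)))
    (hx : ∀ {z z' : 𝒜.obj} (n : z ⟶ z'), P.map (𝒜.p.map n).op (x z') = x z) : 𝒜 ⥤ᵇ Stk.ofPsh P where
  toFunctor :=
    { obj := fun z => ⟨𝒜.p.obj z, x z⟩
      map := fun n => ⟨𝒜.p.map n, hx n⟩
      map_id := fun z => Stk.EltObj.hom_ext (𝒜.p.map_id z)
      map_comp := fun n n' => Stk.EltObj.hom_ext (𝒜.p.map_comp n n') }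
  w := rfl

lemma secVal_mkPsh (x : ∀ z : 𝒜.obj, P.obj (op (𝒜.p.obj z)))
    (hx : ∀ {z z' : 𝒜.obj} (n : z ⟶ z'), P.map (𝒜.p.map n).op (x z') = x z) (z : 𝒜.obj) :
    secVal (mkPsh x hx) z = x z := by
  show P.map (𝟙 (op (𝒜.p.obj z))) (x z) = x z
  rw [CategoryTheory.Functor.map_id]
  rfl

lemma hom_psh_ext {a b : 𝒜 ⥤ᵇ Stk.ofPsh P} (α β : a ⟶ b) : α = β := by
  apply BasedNatTrans.homCategory.ext
  ext z
  exact (map_app α z).trans (map_app β z).symm

lemma secVal_eq {a b : 𝒜 ⥤ᵇ Stk.ofPsh P} (α : a ⟶ b) (z : 𝒜.obj) : secVal a z = secVal b z := by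
  have h : (α.toNatTrans.app z).hom = eqToHom ((a.w_obj z).trans (b.w_obj z).symm) := map_app α z
  refine ((congrArg (P.map (eqToHom (a.w_obj z).symm).op) (α.toNatTrans.app z).map_sec).symm.trans
    (map_map_sec (eqToHom (a.w_obj z).symm) (α.toNatTrans.app z).hom (b.obj z).sec)).trans ?_
  refine congrArg (fun k => P.map (Quiver.Hom.op k) (b.obj z).sec) ?_
  rw [h]
  exact eqToHom_trans _ _

lemma exists_hom (a b : 𝒜 ⥤ᵇ Stk.ofPsh P) (h : ∀ z, secVal a z = secVal b z) : Nonempty (a ⟶ b) := by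
  have hm : ∀ z, P.map (eqToHom ((a.w_obj z).trans (b.w_obj z).symm)).op (b.obj z).sec = (a.obj z).sec := by
    intro z
    have e := congrArg (P.map (eqToHom (a.w_obj z)).op) (h z).symm
    rw [secVal, secVal, ← Functor.map_comp_apply, ← Functor.map_comp_apply, ← op_comp, ← op_comp,
      eqToHom_trans, eqToHom_trans] at e
    refine e.trans ?_
    simp
  refine ⟨{ app := fun z => ⟨eqToHom ((a.w_obj z).trans (b.w_obj z).symm), hm z⟩
            naturality := fun z z' n => Stk.EltObj.hom_ext ?_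
            isHomLift' := fun z => ?_ }⟩
  · show (a.map n).hom ≫ _ = _ ≫ (b.map n).hom
    rw [show (a.map n).hom = _ from map_map a n, show (b.map n).hom = _ from map_map b n]
    simp
  · exact IsHomLift.of_fac' (Stk.ofPsh P).p _ _ (a.w_obj z) (b.w_obj z)
      (show eqToHom ((a.w_obj z).trans (b.w_obj z).symm) = _ by simp)

theorem isStackFor_ofPsh_iff {U : C} (R : Sieve U) :
    Stk.IsStackFor R (Stk.ofPsh P) ↔ Presieve.IsSheafFor P R.arrows := by
  let W : ∀ ⦃V : C⦄ (f : V ⟶ U), R f → (Stk.sieveCat R).obj := fun V f hf => ⟨Over.mk f, hf⟩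
  let T : Over U := Over.mk (𝟙 U)
  have hT : ∀ (a : overCat U ⥤ᵇ Stk.ofPsh P) (z : Over U), secVal a z = P.map z.hom.op (secVal a T) :=
    fun a z => (secVal_map a (Over.homMk z.hom (Category.comp_id _) : z ⟶ T)).symm
  constructor
  · intro h x hx
    haveI : (Stk.resSieve R (Stk.ofPsh P)).IsEquivalence := h
    let b : Stk.sieveCat R ⥤ᵇ Stk.ofPsh P := mkPsh (fun w => x w.obj.hom w.property) (fun {w w'} n => by
      show P.map n.hom.left.op (x w'.obj.hom w'.property) = x w.obj.hom w.property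
      rw [← (Presieve.compatible_iff_sieveCompatible x).1 hx w'.obj.hom n.hom.left w'.property]
      congr 1
      exact Over.w n.hom)
    let a := (Stk.resSieve R (Stk.ofPsh P)).objPreimage b
    let i := (Stk.resSieve R (Stk.ofPsh P)).objObjPreimageIso b
    refine ⟨secVal a T, fun V f hf => ?_, fun y hy => ?_⟩
    · exact (hT a (Over.mk f)).symm.trans ((secVal_eq i.hom (W f hf)).trans (secVal_mkPsh _ _ (W f hf)))
    · let a' : overCat U ⥤ᵇ Stk.ofPsh P := mkPsh (fun z => P.map z.hom.op y) (fun {z z'} n => by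
        show P.map n.left.op (P.map z'.hom.op y) = P.map z.hom.op y
        rw [← Functor.map_comp_apply, ← op_comp, Over.w n])
      obtain ⟨j⟩ := exists_hom ((Stk.resSieve R (Stk.ofPsh P)).obj a') ((Stk.resSieve R (Stk.ofPsh P)).obj a)
        (fun w => by
          show secVal a' w.obj = secVal a w.obj
          rw [secVal_mkPsh]
          exact (hy w.obj.hom w.property).trans
            (((secVal_eq i.hom w).trans (secVal_mkPsh _ _ w)).symm.trans rfl))
      have e := secVal_eq ((Stk.resSieve R (Stk.ofPsh P)).preimage j) T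
      rw [secVal_mkPsh] at e
      rw [← e]
      show y = P.map (𝟙 (op U)) y
      rw [CategoryTheory.Functor.map_id]
      rfl
  · intro h
    haveI : (Stk.resSieve R (Stk.ofPsh P)).Faithful := ⟨fun _ => hom_psh_ext _ _⟩
    haveI : (Stk.resSieve R (Stk.ofPsh P)).Full := ⟨fun {a b} γ => by
      have e : secVal a T = secVal b T := h.isSeparatedFor.ext fun V f hf =>
        (hT a (Over.mk f)).symm.trans ((secVal_eq γ (W f hf)).trans (hT b (Over.mk f)))
      obtain ⟨g⟩ := exists_hom a b fun z => by rw [hT a z, hT b z, e]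
      exact ⟨g, hom_psh_ext _ _⟩⟩
    haveI : (Stk.resSieve R (Stk.ofPsh P)).EssSurj := ⟨fun b => by
      let x : Presieve.FamilyOfElements P R.arrows := fun V f hf => secVal b (W f hf)
      have hx : x.Compatible := (Presieve.compatible_iff_sieveCompatible x).2 fun V V' f g hf =>
        (secVal_map b (ObjectProperty.homMk (Over.homMk g rfl) : W (g ≫ f) (R.downward_closed hf g) ⟶ W f hf)).symm
      obtain ⟨y, hy, -⟩ := h x hx
      let a : overCat U ⥤ᵇ Stk.ofPsh P := mkPsh (fun z => P.map z.hom.op y) (fun {z z'} n => by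
        show P.map n.left.op (P.map z'.hom.op y) = P.map z.hom.op y
        rw [← Functor.map_comp_apply, ← op_comp, Over.w n])
      have e : ∀ w, secVal ((Stk.resSieve R (Stk.ofPsh P)).obj a) w = secVal b w := fun w => by
        show secVal a w.obj = _
        rw [secVal_mkPsh]
        exact hy w.obj.hom w.property
      obtain ⟨j⟩ := exists_hom ((Stk.resSieve R (Stk.ofPsh P)).obj a) b e
      obtain ⟨k⟩ := exists_hom b ((Stk.resSieve R (Stk.ofPsh P)).obj a) fun w => (e w).symm
      exact ⟨a, ⟨⟨j, k, hom_psh_ext _ _, hom_psh_ext _ _⟩⟩⟩⟩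
    exact { }

theorem isStack_ofPsh_iff (J : GrothendieckTopology C) :
    Stk.IsStack J (Stk.ofPsh P) ↔ Presieve.IsSheaf J P :=
  ⟨fun h _ R hR => (isStackFor_ofPsh_iff R).1 (h.2 R hR),
    fun h => ⟨Stk.isFibGrpd_ofPsh P, fun _ R hR => (isStackFor_ofPsh_iff R).2 (h R hR)⟩⟩

/-- The slice as the category of elements of a representable presheaf. -/
def overToPsh (U : C) : overCat U ⥤ᵇ Stk.ofPsh (yoneda.obj U) where
  toFunctor :=
    { obj := fun z => ⟨z.left, z.hom⟩
      map := fun {z z'} n => ⟨n.left, Over.w n⟩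
      map_id := fun z => rfl
      map_comp := fun n n' => rfl }
  w := rfl

lemma isEquivOver_overToPsh (U : C) : IsEquivOver (overToPsh U) := by
  haveI : (overToPsh U).toFunctor.Faithful :=
    ⟨fun {z z'} n n' h => Over.OverMorphism.ext (congrArg Stk.EltObj.Hom.hom h)⟩
  haveI : (overToPsh U).toFunctor.Full := ⟨fun {z z'} m => ⟨Over.homMk m.hom m.map_sec, rfl⟩⟩
  refine isEquivOver_of_fullyFaithful _ fun η => ⟨Over.mk η.sec, Iso.refl _, rfl, ?_⟩
  exact (Stk.EltObj.forget _).map_id _

theorem isStack_overCat_iff (J : GrothendieckTopology C) (U : C) :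
    Stk.IsStack J (overCat U) ↔ Presieve.IsSheaf J (yoneda.obj U) := by
  rw [← isStack_ofPsh_iff]
  obtain ⟨G, hG, -, -⟩ := isEquivOver_symm (isEquivOver_overToPsh U)
  exact ⟨isStack_of_equiv (isEquivOver_overToPsh U) J, isStack_of_equiv hG J⟩

end Groth.Agent.FibCat2Misc

end
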