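import Groth.Agent.FibCat2Misc.Grpd
import Groth.Agent.S6409

/-!
Descent for fibre products over the base, separatedness of morphisms, substacks, refinement of sieves.
-/

set_option autoImplicit false
set_option backward.isDefEq.respectTransparency false
set_option backward.isDefEq.respectTransparency.types false
set_option linter.style.haveILetI false
universe v₅ u₅ v₄ u₄ v₃ u₃ v₂ u₂ v u

noncomputable section

namespace Groth.Agent.FibCat2Misc

open CategoryTheory CategoryTheory.Limits FibCat Groth.Agent.FibCatRep Groth.Agent.StkBasic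

variable {C : Type u} [Category.{v} C]

section fpStack

variable {𝒳 : BasedCategory.{v₂, u₂} C} {𝒴 : BasedCategory.{v₃, u₃} C} {𝒮 : BasedCategory.{v₄, u₄} C}
  {F : 𝒳 ⥤ᵇ 𝒮} {G : 𝒴 ⥤ᵇ 𝒮} {U : C} {R : Sieve U}

lemma prestackFor_fp (hX : Stk.IsPrestackFor R 𝒳) (hY : Stk.IsPrestackFor R 𝒴)
    (hS : Stk.IsPrestackFor R 𝒮) : Stk.IsPrestackFor R (fp F G) := by
  haveI := hX.1; haveI := hX.2; haveI := hY.1; haveI := hY.2; haveI := hS.2
  refine ⟨⟨fun {h h'} γ => ?_⟩, ⟨fun {h h'} α β e => ?_⟩⟩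
  · obtain ⟨α₁, hα₁⟩ := (Stk.resSieve R 𝒳).map_surjective (X := BasedFunctor.comp h (fpFst F G))
      (Y := BasedFunctor.comp h' (fpFst F G)) (BasedCategory.whiskerRight γ (fpFst F G))
    obtain ⟨α₂, hα₂⟩ := (Stk.resSieve R 𝒴).map_surjective (X := BasedFunctor.comp h (fpSnd F G))
      (Y := BasedFunctor.comp h' (fpSnd F G)) (BasedCategory.whiskerRight γ (fpSnd F G))
    have c₁ : ∀ w : (Stk.sieveCat R).obj, α₁.toNatTrans.app w.obj = (γ.toNatTrans.app w).hom.fst :=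
      fun w => congrArg (fun t => t.toNatTrans.app w) hα₁
    have c₂ : ∀ w : (Stk.sieveCat R).obj, α₂.toNatTrans.app w.obj = (γ.toNatTrans.app w).hom.snd :=
      fun w => congrArg (fun t => t.toNatTrans.app w) hα₂
    have w₀ : (post (overCat U) F).map α₁ ≫ ((Stk.restr h' 𝒮).mapIso (fpIso F G)).hom =
        ((Stk.restr h 𝒮).mapIso (fpIso F G)).hom ≫ (post (overCat U) G).map α₂ := by
      refine (Stk.resSieve R 𝒮).map_injective ?_
      apply BasedNatTrans.homCategory.ext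
      ext w
      show F.map (α₁.toNatTrans.app w.obj) ≫ _ = _ ≫ G.map (α₂.toNatTrans.app w.obj)
      rw [c₁, c₂]
      exact (γ.toNatTrans.app w).hom.w
    have w : ∀ z, F.map (α₁.toNatTrans.app z) ≫ (h'.obj z).obj.iso.hom =
        (h.obj z).obj.iso.hom ≫ G.map (α₂.toNatTrans.app z) :=
      fun z => congrArg (fun t => t.toNatTrans.app z) w₀
    let η : h ⟶ h' :=
      { app := fun z => ObjectProperty.homMk ⟨α₁.toNatTrans.app z, α₂.toNatTrans.app z, w z⟩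
        naturality := fun z z' m => ObjectProperty.hom_ext _ (CategoricalPullback.hom_ext
          (α₁.toNatTrans.naturality m) (α₂.toNatTrans.naturality m))
        isHomLift' := fun z => by
          haveI := α₁.isHomLift' z
          exact IsHomLift.of_fac' (fp F G).p _ _ (h.w_obj z) (h'.w_obj z)
            (IsHomLift.fac' 𝒳.p (𝟙 ((overCat U).p.obj z)) (α₁.toNatTrans.app z)) }
    refine ⟨η, ?_⟩
    apply BasedNatTrans.homCategory.ext
    ext w'
    · exact c₁ w'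
    · exact c₂ w'
  · have e₁ : BasedCategory.whiskerRight α (fpFst F G) = BasedCategory.whiskerRight β (fpFst F G) :=
      (Stk.resSieve R 𝒳).map_injective (congrArg (fun t => BasedCategory.whiskerRight t (fpFst F G)) e)
    have e₂ : BasedCategory.whiskerRight α (fpSnd F G) = BasedCategory.whiskerRight β (fpSnd F G) :=
      (Stk.resSieve R 𝒴).map_injective (congrArg (fun t => BasedCategory.whiskerRight t (fpSnd F G)) e)
    apply BasedNatTrans.homCategory.ext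
    ext z
    · exact congrArg (fun t => t.toNatTrans.app z) e₁
    · exact congrArg (fun t => t.toNatTrans.app z) e₂

lemma isStackFor_fp (hX : Stk.IsStackFor R 𝒳) (hY : Stk.IsStackFor R 𝒴)
    (hS : Stk.IsPrestackFor R 𝒮) : Stk.IsStackFor R (fp F G) := by
  haveI iX : (Stk.resSieve R 𝒳).IsEquivalence := hX
  haveI iY : (Stk.resSieve R 𝒴).IsEquivalence := hY
  obtain ⟨h₁, h₂⟩ := prestackFor_fp (F := F) (G := G) (R := R) ⟨inferInstance, inferInstance⟩
    ⟨inferInstance, inferInstance⟩ hS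
  haveI := h₁
  haveI := h₂
  haveI : (Stk.resSieve R (fp F G)).EssSurj := ⟨fun b => by
    let i₁ := (Stk.resSieve R 𝒳).objObjPreimageIso (BasedFunctor.comp b (fpFst F G))
    let i₂ := (Stk.resSieve R 𝒴).objObjPreimageIso (BasedFunctor.comp b (fpSnd F G))
    let a₁ := (Stk.resSieve R 𝒳).objPreimage (BasedFunctor.comp b (fpFst F G))
    let a₂ := (Stk.resSieve R 𝒴).objPreimage (BasedFunctor.comp b (fpSnd F G))
    haveI := hS.1
    haveI := hS.2
    let d : (Stk.resSieve R 𝒮).obj (BasedFunctor.comp a₁ F) ≅ (Stk.resSieve R 𝒮).obj (BasedFunctor.comp a₂ G) :=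
      (post _ F).mapIso i₁ ≪≫ (Stk.restr b 𝒮).mapIso (fpIso F G) ≪≫ ((post _ G).mapIso i₂).symm
    let h := fpLift a₁ a₂ ((Stk.resSieve R 𝒮).preimageIso d)
    let j₁ : ∀ w : (Stk.sieveCat R).obj, a₁.obj w.obj ≅ (b.obj w).obj.fst :=
      fun w => ((BasedNatTrans.forgetful _ _).mapIso i₁).app w
    let j₂ : ∀ w : (Stk.sieveCat R).obj, a₂.obj w.obj ≅ (b.obj w).obj.snd :=
      fun w => ((BasedNatTrans.forgetful _ _).mapIso i₂).app w
    have hd : ∀ w : (Stk.sieveCat R).obj, F.map (j₁ w).hom ≫ (b.obj w).obj.iso.hom =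
        (h.obj w.obj).obj.iso.hom ≫ G.map (j₂ w).hom := fun w => by
      have e : (Stk.resSieve R 𝒮).map ((Stk.resSieve R 𝒮).preimageIso d).hom = d.hom := by
        rw [Functor.preimageIso_hom, Functor.map_preimage]
      have e' : (h.obj w.obj).obj.iso.hom =
          F.map (j₁ w).hom ≫ (b.obj w).obj.iso.hom ≫ G.map (j₂ w).inv :=
        congrArg (fun t => t.toNatTrans.app w) e
      rw [e', Category.assoc, Category.assoc, ← Functor.map_comp, Iso.inv_hom_id,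
        CategoryTheory.Functor.map_id]
      exact congrArg (_ ≫ ·) (Category.comp_id _).symm
    exact ⟨h, ⟨BasedNatIso.mkNatIso
      (NatIso.ofComponents (fun w => ObjectProperty.isoMk _ (CategoricalPullback.mkIso (j₁ w) (j₂ w) (hd w)))
        (fun {w w'} m => ObjectProperty.hom_ext _ (CategoricalPullback.hom_ext
          (i₁.hom.toNatTrans.naturality m) (i₂.hom.toNatTrans.naturality m))))
      (fun w => by
        haveI := i₁.hom.isHomLift' w
        exact IsHomLift.of_fac' (fp F G).p _ _ (((Stk.resSieve R (fp F G)).obj h).w_obj w) (b.w_obj w)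
          (IsHomLift.fac' 𝒳.p (𝟙 ((Stk.sieveCat R).p.obj w)) (i₁.hom.toNatTrans.app w)))⟩⟩⟩
  exact { }

end fpStack

theorem isStack_fp {𝒳 : BasedCategory.{v₂, u₂} C} {𝒴 : BasedCategory.{v₃, u₃} C}
    {𝒮 : BasedCategory.{v₄, u₄} C} {J : GrothendieckTopology C} (hX : Stk.IsStack J 𝒳) (hY : Stk.IsStack J 𝒴)
    (hS : Stk.IsPrestack J 𝒮) (F : 𝒳 ⥤ᵇ 𝒮) (G : 𝒴 ⥤ᵇ 𝒮) : Stk.IsStack J (fp F G) :=
  ⟨isFibGrpd_fp hX.1 hY.1 hS.1 F G,
    fun _ R hR => isStackFor_fp (hX.2 R hR) (hY.2 R hR) (hS.2 R hR)⟩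

lemma isPrestack_of_isStack {𝒳 : BasedCategory.{v₂, u₂} C} {J : GrothendieckTopology C}
    (h : Stk.IsStack J 𝒳) : Stk.IsPrestack J 𝒳 :=
  ⟨h.1, fun _ R hR => by
    haveI : (Stk.resSieve R 𝒳).IsEquivalence := h.2 R hR
    exact ⟨inferInstance, inferInstance⟩⟩

section separated

variable {𝒯 : BasedCategory.{v, max u v} C} (h𝒯 : IsFibGrpd 𝒯.p)
include h𝒯

/-- Morphisms agreeing locally on a sieve along which morphisms glue uniquely are equal. -/
theorem eq_of_locally {t t' : 𝒯.obj} {U : C} (ht : 𝒯.p.obj t = U) (R : Sieve U)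
    (hR : (Stk.resSieve R 𝒯).Faithful) (α β : t ⟶ t') (hp : 𝒯.p.map α = 𝒯.p.map β)
    (h : ∀ ⦃V : C⦄ (f : V ⟶ U), R f → ∃ (y : 𝒯.obj) (μ : y ⟶ t) (hy : 𝒯.p.obj y = V),
      𝒯.p.map μ = eqToHom hy ≫ f ≫ eqToHom ht.symm ∧ μ ≫ α = μ ≫ β) : α = β := by
  subst ht
  obtain ⟨s, γ, hs, hγ⟩ := exists_lift h𝒯 (x := t') (𝒯.p.map α)
  obtain ⟨α', ⟨hα, cα⟩, -⟩ := existsUnique_cart h𝒯 γ α (eqToHom hs.symm) (by simp [hγ])
  obtain ⟨β', ⟨hβ, cβ⟩, -⟩ := existsUnique_cart h𝒯 γ β (eqToHom hs.symm) (by simp [hγ, hp])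
  suffices e : α' = β' by rw [← cα, ← cβ, e]
  let U := 𝒯.p.obj t
  haveI := S6409.result h𝒯 U
  let pt : 𝒯.p.Fiber U := ⟨t, rfl⟩
  let ps : 𝒯.p.Fiber U := ⟨s, hs⟩
  let a := (evalAtId 𝒯 U).objPreimage pt
  let ε := (evalAtId 𝒯 U).objObjPreimageIso pt
  let b := (evalAtId 𝒯 U).objPreimage ps
  let δ := (evalAtId 𝒯 U).objObjPreimageIso ps
  let fα : pt ⟶ ps := fibHom pt ps α' hα
  let fβ : pt ⟶ ps := fibHom pt ps β' hβ
  let Φ : a ⟶ b := (evalAtId 𝒯 U).preimage (ε.hom ≫ fα ≫ δ.inv)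
  let Ψ : a ⟶ b := (evalAtId 𝒯 U).preimage (ε.hom ≫ fβ ≫ δ.inv)
  suffices hΦ : Φ = Ψ by
    have e := congrArg (evalAtId 𝒯 U).map hΦ
    rw [Functor.map_preimage, Functor.map_preimage, cancel_epi, cancel_mono] at e
    exact congrArg Subtype.val e
  haveI := hR
  refine (Stk.resSieve R 𝒯).map_injective ?_
  apply BasedNatTrans.homCategory.ext
  ext w
  let T : Over U := Over.mk (𝟙 U)
  let m : w.obj ⟶ T := Over.homMk w.obj.hom (Category.comp_id _)
  show Φ.toNatTrans.app w.obj = Ψ.toNatTrans.app w.obj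
  refine cancel h𝒯 (b.map m) ((map_app Φ w.obj).trans (map_app Ψ w.obj).symm) ?_
  have nΦ : a.map m ≫ Φ.toNatTrans.app T = Φ.toNatTrans.app w.obj ≫ b.map m := Φ.toNatTrans.naturality m
  have nΨ : a.map m ≫ Ψ.toNatTrans.app T = Ψ.toNatTrans.app w.obj ≫ b.map m := Ψ.toNatTrans.naturality m
  rw [← nΦ, ← nΨ]
  let εt : a.obj T ⟶ t := Functor.Fiber.fiberInclusion.map ε.hom
  let δi : s ⟶ b.obj T := Functor.Fiber.fiberInclusion.map δ.inv
  have vΦ : Φ.toNatTrans.app T = εt ≫ α' ≫ δi :=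
    congrArg Subtype.val ((evalAtId 𝒯 U).map_preimage (ε.hom ≫ fα ≫ δ.inv))
  have vΨ : Ψ.toNatTrans.app T = εt ≫ β' ≫ δi :=
    congrArg Subtype.val ((evalAtId 𝒯 U).map_preimage (ε.hom ≫ fβ ≫ δ.inv))
  obtain ⟨y, μ, hy, hμ, hμe⟩ := h w.obj.hom w.property
  have hμ' : μ ≫ α' = μ ≫ β' := cancel h𝒯 γ (by simp [hα, hβ])
    (by rw [Category.assoc, Category.assoc, cα, cβ, hμe])
  have hεt : 𝒯.p.map εt = eqToHom (a.w_obj T) := map_of_fiber ε.hom
  obtain ⟨θ, ⟨-, hθ⟩, -⟩ := existsUnique_cart h𝒯 μ (a.map m ≫ εt)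
    (eqToHom ((a.w_obj w.obj).trans hy.symm)) (by
      rw [Functor.map_comp, map_map, hεt, hμ]
      simp [m]
      rfl)
  rw [vΦ, vΨ, ← Category.assoc (a.map m), ← Category.assoc (a.map m), ← hθ]
  simp only [Category.assoc]
  rw [reassoc_of% hμ']

end separated

section localisation

variable {𝒮₁ 𝒮₂ 𝒯 : BasedCategory.{v, max u v} C} (h₁ : IsFibGrpd 𝒮₁.p) {J : GrothendieckTopology C}
  (h₃ : Stk.IsPrestack J 𝒯) (F : 𝒮₂ ⥤ᵇ 𝒮₁) (G : 𝒯 ⥤ᵇ 𝒮₁)
  (hF : ∀ y : 𝒮₁.obj, ∃ R ∈ J (𝒮₁.p.obj y), ∀ ⦃V : C⦄ (f : V ⟶ 𝒮₁.p.obj y), R f →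
    ∃ (x : 𝒮₂.obj) (φ : F.obj x ⟶ y), 𝒮₁.p.IsHomLift f φ)
include h₁ h₃ hF

/-- Two morphisms over the same morphism of the base agree if they agree after pulling back to the
objects with a chosen identification with the image of `F`. -/
lemma eq_of_local_lifts {t t' : 𝒯.obj} (α β : t ⟶ t') (hp : 𝒯.p.map α = 𝒯.p.map β)
    (h : ∀ (x : 𝒮₂.obj) (t₁ t₂ : 𝒯.obj) (μ : t₁ ⟶ t) (ν : t₂ ⟶ t') (χ χ' : t₁ ⟶ t₂)
      (θ : F.obj x ≅ G.obj t₁) (q : 𝒮₁.p.obj (F.obj x) = 𝒮₁.p.obj (G.obj t₁))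
      (e : 𝒯.p.obj t₁ = 𝒯.p.obj t₂),
      𝒮₁.p.map θ.hom = eqToHom q → 𝒯.p.map χ = eqToHom e → 𝒯.p.map χ' = eqToHom e →
      χ ≫ ν = μ ≫ α → χ' ≫ ν = μ ≫ β → χ = χ') : α = β := by
  obtain ⟨R, hR, hφ⟩ := hF (G.obj t)
  let U := 𝒮₁.p.obj (G.obj t)
  refine eq_of_locally h₃.1 (G.w_obj t).symm R (h₃.2 R hR).2 α β hp fun V f hf => ?_
  obtain ⟨x, φ, hfφ⟩ := hφ f hf
  haveI := hfφ
  have hxV : 𝒮₁.p.obj (F.obj x) = V := IsHomLift.domain_eq 𝒮₁.p f φ
  have hφm : 𝒮₁.p.map φ = eqToHom hxV ≫ f := (IsHomLift.fac' 𝒮₁.p f φ).trans (by simp)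
  obtain ⟨t₁, μ, ht₁, hμ⟩ := exists_lift h₃.1 (x := t) (f ≫ eqToHom (G.w_obj t))
  obtain ⟨t₂, ν, ht₂, hν⟩ := exists_lift h₃.1 (x := t') ((f ≫ eqToHom (G.w_obj t)) ≫ 𝒯.p.map α)
  obtain ⟨χ, ⟨hχ, cχ⟩, -⟩ := existsUnique_cart h₃.1 ν (μ ≫ α) (eqToHom (ht₁.trans ht₂.symm))
    (by simp [hν, hμ])
  obtain ⟨χ', ⟨hχ', cχ'⟩, -⟩ := existsUnique_cart h₃.1 ν (μ ≫ β) (eqToHom (ht₁.trans ht₂.symm))
    (by simp [hν, hμ, hp])
  obtain ⟨θ, ⟨hθ, -⟩, -⟩ := existsUnique_cart h₁ (G.map μ) φ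
    (eqToHom (hxV.trans (ht₁.symm.trans (G.w_obj t₁).symm))) (by simp [map_map, hμ, hφm])
  haveI : IsIso (𝒮₁.p.map θ) := by rw [hθ]; infer_instance
  haveI := isIso_of_map h₁ θ
  refine ⟨t₁, μ, ht₁, hμ.trans (by simp), ?_⟩
  rw [← cχ, ← cχ', h x t₁ t₂ μ ν χ χ' (asIso θ) _ _ hθ hχ hχ' cχ cχ']

theorem faithful_of_fpFst [hf : (fpFst F G).toFunctor.Faithful] : G.toFunctor.Faithful := by
  refine ⟨fun {t t'} α β e => ?_⟩
  have hp : 𝒯.p.map α = 𝒯.p.map β := by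
    have e' := congrArg 𝒮₁.p.map e
    rw [map_map, map_map] at e'
    exact (cancel_mono (eqToHom (G.w_obj t').symm)).1 ((cancel_epi (eqToHom (G.w_obj t))).1 e')
  refine eq_of_local_lifts h₁ h₃ F G hF α β hp fun x t₁ t₂ μ ν χ χ' θ q e₀ hθ hχ hχ' cχ cχ' => ?_
  haveI : IsIso (𝒯.p.map χ) := by rw [hχ]; infer_instance
  haveI := isIso_of_map h₃.1 χ
  have hGχ : G.map χ = G.map χ' := cancel h₁ (G.map ν) (by simp [map_map, hχ, hχ']) (by
    rw [← Functor.map_comp, ← Functor.map_comp, cχ, cχ', Functor.map_comp, Functor.map_comp, e])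
  have hθ₂ : 𝒮₁.p.map (θ ≪≫ asIso (G.map χ)).hom =
      eqToHom (q.trans ((G.w_obj t₁).trans (e₀.trans (G.w_obj t₂).symm))) := by
    show 𝒮₁.p.map (θ.hom ≫ G.map χ) = _
    rw [Functor.map_comp, hθ, map_map, hχ]
    simp
  let o : (fp F G).obj := ⟨⟨x, t₁, θ⟩, fpProp_of_map F G _ q hθ⟩
  let o' : (fp F G).obj := ⟨⟨x, t₂, θ ≪≫ asIso (G.map χ)⟩, fpProp_of_map F G _ _ hθ₂⟩
  let m : o ⟶ o' := ObjectProperty.homMk ⟨𝟙 x, χ, by
    show F.map (𝟙 x) ≫ θ.hom ≫ G.map χ = θ.hom ≫ G.map χ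
    rw [CategoryTheory.Functor.map_id, Category.id_comp]⟩
  let m' : o ⟶ o' := ObjectProperty.homMk ⟨𝟙 x, χ', by
    show F.map (𝟙 x) ≫ θ.hom ≫ G.map χ = θ.hom ≫ G.map χ'
    rw [CategoryTheory.Functor.map_id, Category.id_comp, hGχ]⟩
  exact congrArg (fun k => k.hom.snd) ((fpFst F G).toFunctor.map_injective (a₁ := m) (a₂ := m') rfl)

theorem faithful_of_isFibSetoid_fp [F.toFunctor.Full] [F.toFunctor.Faithful]
    (h : IsFibSetoid (fp F G).p) : IsFibSetoid 𝒯.p := by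
  haveI := faithful_of_isFibSetoid h
  refine isFibSetoid_iff.2 ⟨h₃.1, ⟨fun {t t'} α β hp => ?_⟩⟩
  refine eq_of_local_lifts h₁ h₃ F G hF α β hp fun x t₁ t₂ μ ν χ χ' θ q e₀ hθ hχ hχ' cχ cχ' => ?_
  haveI : IsIso (𝒯.p.map χ) := by rw [hχ]; infer_instance
  haveI := isIso_of_map h₃.1 χ
  let θ₂ : F.obj x ≅ G.obj t₂ := θ ≪≫ asIso (G.map χ)
  have hθ₂ : 𝒮₁.p.map θ₂.hom = eqToHom (q.trans ((G.w_obj t₁).trans (e₀.trans (G.w_obj t₂).symm))) := by
    show 𝒮₁.p.map (θ.hom ≫ G.map χ) = _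
    rw [Functor.map_comp, hθ, map_map, hχ]
    simp
  have hθ₂i : 𝒮₁.p.map θ₂.inv = eqToHom _ :=
    (congrArg 𝒮₁.p.map (IsIso.Iso.inv_hom θ₂).symm).trans (map_inv_of_eqToHom _ hθ₂)
  obtain ⟨u, hu⟩ := F.toFunctor.map_surjective (θ.hom ≫ G.map χ' ≫ θ₂.inv)
  have hpu : 𝒮₂.p.map u = 𝟙 _ := by
    have e' := congrArg 𝒮₁.p.map hu
    rw [map_map, Functor.map_comp, Functor.map_comp, hθ, map_map, hχ', hθ₂i] at e'
    rw [← cancel_epi (eqToHom (F.w_obj x)), ← cancel_mono (eqToHom (F.w_obj x).symm), Category.assoc, e']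
    simp
  let o : (fp F G).obj := ⟨⟨x, t₁, θ⟩, fpProp_of_map F G _ q hθ⟩
  let o' : (fp F G).obj := ⟨⟨x, t₂, θ₂⟩, fpProp_of_map F G _ _ hθ₂⟩
  let m : o ⟶ o' := ObjectProperty.homMk ⟨𝟙 x, χ, by
    show F.map (𝟙 x) ≫ θ.hom ≫ G.map χ = θ.hom ≫ G.map χ
    rw [CategoryTheory.Functor.map_id, Category.id_comp]⟩
  let m' : o ⟶ o' := ObjectProperty.homMk ⟨u, χ', by
    show F.map u ≫ θ₂.hom = θ.hom ≫ G.map χ'
    rw [hu]; simp⟩
  exact congrArg (fun k => k.hom.snd) ((fp F G).p.map_injective (a₁ := m) (a₂ := m')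
    (((congrArg (𝒮₂.p.map) rfl).trans (𝒮₂.p.map_id x)).trans hpu.symm))

end localisation

section substack

variable {𝒳 : BasedCategory.{v, max u v} C} (Q : ObjectProperty 𝒳.obj)

/-- The inclusion of a full subcategory, as a functor over the base. -/
def subIncl : BasedCategory.ofFunctor (Q.ι ⋙ 𝒳.p) ⥤ᵇ 𝒳 where
  toFunctor := Q.ι
  w := rfl

lemma post_fullyFaithful {A : BasedCategory.{v₂, u₂} C} {𝒴 : BasedCategory.{v₃, u₃} C}
    {𝒵 : BasedCategory.{v₄, u₄} C} (I : 𝒴 ⥤ᵇ 𝒵) [I.toFunctor.Full] [I.toFunctor.Faithful] :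
    (post A I).Full ∧ (post A I).Faithful := by
  refine ⟨⟨fun {a b} γ => ?_⟩, ⟨fun {a b} α β e => ?_⟩⟩
  · refine ⟨{ app := fun z => I.toFunctor.preimage (γ.toNatTrans.app z)
              naturality := fun z z' m => I.toFunctor.map_injective ?_
              isHomLift' := fun z => ?_ }, ?_⟩
    · rw [Functor.map_comp, Functor.map_comp, Functor.map_preimage, Functor.map_preimage]
      exact γ.toNatTrans.naturality m
    · exact (BasedFunctor.isHomLift_iff I _ _).1 (by rw [Functor.map_preimage]; exact γ.isHomLift' z)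
    · apply BasedNatTrans.homCategory.ext
      ext z
      exact I.toFunctor.map_preimage _
  · apply BasedNatTrans.homCategory.ext
    ext z
    exact I.toFunctor.map_injective (congrArg (fun t => t.toNatTrans.app z) e)

lemma exists_factor {A : BasedCategory.{v₂, u₂} C} {𝒴 : BasedCategory.{v₃, u₃} C}
    {𝒵 : BasedCategory.{v₄, u₄} C} (I : 𝒴 ⥤ᵇ 𝒵) [I.toFunctor.Full] [I.toFunctor.Faithful] (a : A ⥤ᵇ 𝒵)
    (h : ∀ z : A.obj, ∃ (y : 𝒴.obj) (θ : I.obj y ≅ a.obj z) (q : 𝒵.p.obj (I.obj y) = 𝒵.p.obj (a.obj z)),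
      𝒵.p.map θ.hom = eqToHom q) :
    ∃ a' : A ⥤ᵇ 𝒴, Nonempty (BasedFunctor.comp a' I ≅ a) := by
  choose y θ q hθ using h
  have hθi : ∀ w, 𝒵.p.map (θ w).inv = eqToHom (q w).symm := fun w => by
    rw [← IsIso.Iso.inv_hom (θ w)]; exact map_inv_of_eqToHom _ (hθ w)
  let a' : A ⥤ᵇ 𝒴 :=
    { toFunctor :=
        { obj := y
          map := fun {w w'} m => I.toFunctor.preimage ((θ w).hom ≫ a.map m ≫ (θ w').inv)
          map_id := fun w => I.toFunctor.map_injective (by simp)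
          map_comp := fun m m' => I.toFunctor.map_injective (by simp) }
      w := CategoryTheory.Functor.ext
        (fun w => (I.w_obj (y w)).symm.trans ((q w).trans (a.w_obj w)))
        (fun w w' m => by
          have h1 := map_map I (I.toFunctor.preimage ((θ w).hom ≫ a.map m ≫ (θ w').inv))
          rw [Functor.map_preimage, Functor.map_comp, Functor.map_comp, hθ, hθi, map_map] at h1
          show 𝒴.p.map (I.toFunctor.preimage ((θ w).hom ≫ a.map m ≫ (θ w').inv)) = _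
          rw [← cancel_epi (eqToHom (I.w_obj (y w))), ← cancel_mono (eqToHom (I.w_obj (y w')).symm)]
          simp only [Category.assoc] at h1 ⊢
          rw [← h1]
          simp) }
  exact ⟨a', ⟨BasedNatIso.mkNatIso (NatIso.ofComponents θ (fun {w w'} m => by
      show I.map (I.toFunctor.preimage ((θ w).hom ≫ a.map m ≫ (θ w').inv)) ≫ _ = _
      rw [Functor.map_preimage]
      simp))
    (fun w => isHomLift_of_map _ ((q w).trans (a.w_obj w)) (a.w_obj w) (hθ w))⟩⟩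

variable {Q}

theorem isStack_sub {J : GrothendieckTopology C} (h𝒳 : Stk.IsStack J 𝒳)
    (h1 : ∀ ⦃y x : 𝒳.obj⦄ (φ : y ⟶ x), Q x →
      ∃ (y' : 𝒳.obj) (e : y ≅ y'), Q y' ∧ 𝒳.p.IsHomLift (𝟙 (𝒳.p.obj y)) e.hom)
    (h3 : ∀ ⦃U : C⦄ (R : Sieve U), R ∈ J U → ∀ (x : 𝒳.obj), 𝒳.p.obj x = U →
      (∀ ⦃V : C⦄ (f : V ⟶ U), R f → ∀ (y : 𝒳.obj) (φ : y ⟶ x), 𝒳.p.IsHomLift f φ →
        ∃ (y' : 𝒳.obj) (e : y ≅ y'), Q y' ∧ 𝒳.p.IsHomLift (𝟙 V) e.hom) →
      ∃ (x' : 𝒳.obj) (e : x ≅ x'), Q x' ∧ 𝒳.p.IsHomLift (𝟙 U) e.hom) :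
    Stk.IsStack J (BasedCategory.ofFunctor (Q.ι ⋙ 𝒳.p)) := by
  let 𝒳' : BasedCategory.{v, max u v} C := BasedCategory.ofFunctor (Q.ι ⋙ 𝒳.p)
  let I : 𝒳' ⥤ᵇ 𝒳 := subIncl Q
  haveI : I.toFunctor.Full := inferInstanceAs Q.ι.Full
  haveI : I.toFunctor.Faithful := inferInstanceAs Q.ι.Faithful
  refine ⟨isFibGrpd_mk (fun {x V} f => ?_) (fun {z y x} φ ψ g hg => ?_), fun U R hR => ?_⟩
  · obtain ⟨y, φ, hy, hφ⟩ := exists_lift h𝒳.1 (x := x.obj) f
    obtain ⟨y', e, hy', he⟩ := h1 φ x.property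
    have hq : 𝒳.p.obj y' = 𝒳.p.obj y := IsHomLift.codomain_eq 𝒳.p (𝟙 (𝒳.p.obj y)) e.hom
    have hem : 𝒳.p.map e.inv = eqToHom hq := by
      rw [← IsIso.Iso.inv_hom e]
      exact map_inv_of_eqToHom (h := hq.symm) _ ((IsHomLift.fac' 𝒳.p (𝟙 (𝒳.p.obj y)) e.hom).trans (by simp))
    refine ⟨⟨y', hy'⟩, ObjectProperty.homMk (e.inv ≫ φ), hq.trans hy, ?_⟩
    show 𝒳.p.map (e.inv ≫ φ) = _
    rw [Functor.map_comp, hem, hφ]
    simp
  · obtain ⟨χ, ⟨hχ, hc⟩, hu⟩ := existsUnique_cart h𝒳.1 φ.hom ψ.hom g hg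
    exact ⟨ObjectProperty.homMk χ, ⟨hχ, ObjectProperty.hom_ext _ hc⟩,
      fun χ' hχ' => ObjectProperty.hom_ext _ (hu χ'.hom ⟨hχ'.1, congrArg (fun t => t.hom) hχ'.2⟩)⟩
  · haveI : (Stk.resSieve R 𝒳).IsEquivalence := h𝒳.2 R hR
    obtain ⟨p₁, p₂⟩ := post_fullyFaithful (A := overCat U) I
    obtain ⟨p₃, p₄⟩ := post_fullyFaithful (A := Stk.sieveCat R) I
    haveI := p₁; haveI := p₂; haveI := p₃; haveI := p₄
    haveI : (Stk.resSieve R 𝒳' ⋙ post (Stk.sieveCat R) I).Full :=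
      Functor.Full.of_iso (squareIso I R)
    haveI : (Stk.resSieve R 𝒳' ⋙ post (Stk.sieveCat R) I).Faithful :=
      Functor.Faithful.of_iso (squareIso I R)
    haveI : (Stk.resSieve R 𝒳').Full := Functor.Full.of_comp_faithful _ (post (Stk.sieveCat R) I)
    haveI : (Stk.resSieve R 𝒳').Faithful := Functor.Faithful.of_comp _ (post (Stk.sieveCat R) I)
    haveI : (Stk.resSieve R 𝒳').EssSurj := ⟨fun b => by
      let a := (Stk.resSieve R 𝒳).objPreimage (BasedFunctor.comp b I)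
      let ec := (Stk.resSieve R 𝒳).objObjPreimageIso (BasedFunctor.comp b I)
      have hpt : ∀ z : Over U, ∃ (y : 𝒳'.obj) (θ : I.obj y ≅ a.obj z)
          (q : 𝒳.p.obj (I.obj y) = 𝒳.p.obj (a.obj z)), 𝒳.p.map θ.hom = eqToHom q := by
        intro z
        have hz : 𝒳.p.obj (a.obj z) = z.left := a.w_obj z
        obtain ⟨x', e, hx', he⟩ := h3 (R.pullback z.hom) (J.pullback_stable z.hom hR) (a.obj z) hz
          (fun V f hf y φ hφ => by
            haveI := hφ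
            let w : (Stk.sieveCat R).obj := ⟨Over.mk (f ≫ z.hom), hf⟩
            let d : w.obj ⟶ z := Over.homMk f rfl
            have hy : 𝒳.p.obj y = V := IsHomLift.domain_eq 𝒳.p f φ
            have hφm := IsHomLift.fac' 𝒳.p f φ
            obtain ⟨χ, ⟨hχ, -⟩, -⟩ := existsUnique_cart h𝒳.1 (a.map d) φ
              (eqToHom (hy.trans (a.w_obj w.obj).symm)) (by simp [map_map, d, hφm]; rfl)
            haveI : IsIso (𝒳.p.map χ) := by rw [hχ]; infer_instance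
            haveI := isIso_of_map h𝒳.1 χ
            let ew : a.obj w.obj ≅ (b.obj w).obj := ((BasedNatTrans.forgetful _ _).mapIso ec).app w
            have hew : 𝒳.p.map ew.hom = eqToHom _ := map_app ec.hom w
            refine ⟨(b.obj w).obj, asIso χ ≪≫ ew, (b.obj w).property,
              isHomLift_of_map _ hy (b.w_obj w) ?_⟩
            show 𝒳.p.map (χ ≫ ew.hom) = _
            rw [Functor.map_comp, hχ, hew]
            exact eqToHom_trans _ _)
        have hq : 𝒳.p.obj x' = z.left := IsHomLift.codomain_eq 𝒳.p (𝟙 z.left) e.hom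
        refine ⟨⟨x', hx'⟩, e.symm, hq.trans hz.symm, ?_⟩
        show 𝒳.p.map e.inv = _
        rw [← IsIso.Iso.inv_hom e]
        exact map_inv_of_eqToHom (h := hz.trans hq.symm) _
          ((IsHomLift.fac' 𝒳.p (𝟙 z.left) e.hom).trans (by simp))
      obtain ⟨a', ⟨i⟩⟩ := exists_factor I a hpt
      exact ⟨a', ⟨(post (Stk.sieveCat R) I).preimageIso
        ((Stk.resSieve R 𝒳).mapIso i ≪≫ ec)⟩⟩⟩
    exact { }

end substack

section refine

variable {𝒳 : BasedCategory.{v, max u v} C} {U : C} {S R : Sieve U}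

/-- The inclusion of a smaller sieve. -/
def sieveLE (hSR : S ≤ R) : Stk.sieveCat S ⥤ᵇ Stk.sieveCat R where
  toFunctor := ObjectProperty.ιOfLE (fun f hf => hSR _ hf)
  w := rfl

/-- The slice over an arrow of a sieve mapping into it. -/
def sliceTo (w : (Stk.sieveCat R).obj) : overCat w.obj.left ⥤ᵇ Stk.sieveCat R where
  toFunctor :=
    { obj := fun z => ⟨Over.mk (z.hom ≫ w.obj.hom), R.downward_closed w.property z.hom⟩
      map := fun n => ObjectProperty.homMk (Over.homMk n.left (by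
        show n.left ≫ _ ≫ w.obj.hom = _ ≫ w.obj.hom
        rw [← Category.assoc, Over.w n])) }
  w := rfl

/-- The identity arrow goes to the arrow. -/
def sliceToIso (w : (Stk.sieveCat R).obj) : (sliceTo w).obj (Over.mk (𝟙 w.obj.left)) ≅ w :=
  ObjectProperty.isoMk _ (Over.isoMk (Iso.refl _) (by
    show 𝟙 _ ≫ w.obj.hom = 𝟙 _ ≫ w.obj.hom
    rfl))

/-- The pullback sieve mapping into the smaller sieve. -/
def pullTo (w : (Stk.sieveCat R).obj) : Stk.sieveCat (S.pullback w.obj.hom) ⥤ᵇ Stk.sieveCat S where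
  toFunctor :=
    { obj := fun z => ⟨Over.mk (z.obj.hom ≫ w.obj.hom), z.property⟩
      map := fun n => ObjectProperty.homMk (Over.homMk n.hom.left (by
        show n.hom.left ≫ _ ≫ w.obj.hom = _ ≫ w.obj.hom
        rw [← Category.assoc, Over.w n.hom])) }
  w := rfl

theorem isStackFor_of_le (h𝒳 : IsFibGrpd 𝒳.p) (hSR : S ≤ R) (hS : Stk.IsStackFor S 𝒳)
    (hR : ∀ ⦃V : C⦄ (f : V ⟶ U), R f → Stk.IsPrestackFor (S.pullback f) 𝒳) : Stk.IsStackFor R 𝒳 := by
  let i := Stk.restr (sieveLE hSR) 𝒳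
  have sep : ∀ (b b' : Stk.sieveCat R ⥤ᵇ 𝒳) (w : (Stk.sieveCat R).obj) {t' : 𝒳.obj} (α β : b.obj w ⟶ t'),
      𝒳.p.map α = 𝒳.p.map β →
      (∀ (z : (Stk.sieveCat (S.pullback w.obj.hom)).obj),
        b.map ((sliceTo w).map (Over.homMk z.obj.hom (Category.comp_id _) : z.obj ⟶ Over.mk (𝟙 w.obj.left)) ≫
          (sliceToIso w).hom) ≫ α =
        b.map ((sliceTo w).map (Over.homMk z.obj.hom (Category.comp_id _) : z.obj ⟶ Over.mk (𝟙 w.obj.left)) ≫
          (sliceToIso w).hom) ≫ β) → α = β := by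
    intro b b' w t' α β hp h
    refine eq_of_locally h𝒳 (b.w_obj w) (S.pullback w.obj.hom) (hR _ w.property).2 α β hp fun V f hf => ?_
    refine ⟨_, _, b.w_obj _, ?_, h ⟨Over.mk f, hf⟩⟩
    rw [map_map]
    show eqToHom _ ≫ (f ≫ 𝟙 _) ≫ eqToHom _ = _
    rw [Category.comp_id]
  haveI : i.Faithful := ⟨fun {b b'} η η' e => by
    apply BasedNatTrans.homCategory.ext
    ext w
    refine sep b b' w _ _ ((map_app η w).trans (map_app η' w).symm) fun z => ?_
    have ez : η.toNatTrans.app ((sliceTo w).obj z.obj) = η'.toNatTrans.app ((sliceTo w).obj z.obj) :=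
      congrArg (fun t => t.toNatTrans.app ((pullTo w).obj z)) e
    rw [η.toNatTrans.naturality, η'.toNatTrans.naturality]
    exact congrArg (· ≫ _) ez⟩
  haveI : i.Full := ⟨fun {b b'} γ => by
    have hΓ : ∀ w : (Stk.sieveCat R).obj,
        ∃ Γ : BasedFunctor.comp (sliceTo w) b ⟶ BasedFunctor.comp (sliceTo w) b',
        (Stk.resSieve (S.pullback w.obj.hom) 𝒳).map Γ = BasedCategory.whiskerLeft (pullTo w) γ := fun w => by
      haveI := (hR _ w.property).1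
      exact Functor.map_surjective _ _
    choose Γ hΓ using hΓ
    let T : ∀ w : (Stk.sieveCat R).obj, Over w.obj.left := fun w => Over.mk (𝟙 w.obj.left)
    let η : ∀ w, b.obj w ⟶ b'.obj w := fun w =>
      b.map (sliceToIso w).inv ≫ (Γ w).toNatTrans.app (T w) ≫ b'.map (sliceToIso w).hom
    have key : ∀ (w : (Stk.sieveCat R).obj) (u : (Stk.sieveCat S).obj)
        (k : (sieveLE hSR).obj u ⟶ w), b.map k ≫ η w = γ.toNatTrans.app u ≫ b'.map k := by
      intro w u k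
      obtain ⟨⟨Z, ⟨⟨⟩⟩, g⟩, hu⟩ := u
      obtain ⟨l, hl⟩ : ∃ l : Z ⟶ w.obj.left, l = k.hom.left := ⟨_, rfl⟩
      obtain rfl : g = l ≫ w.obj.hom := by rw [hl]; exact (Over.w k.hom).symm
      let z : (Stk.sieveCat (S.pullback w.obj.hom)).obj := ⟨Over.mk l, hu⟩
      let n : z.obj ⟶ T w := Over.homMk l (Category.comp_id _)
      have hk : k = (sliceTo w).map n ≫ (sliceToIso w).hom :=
        ObjectProperty.hom_ext _ (Over.OverMorphism.ext (hl.symm.trans (Category.comp_id _).symm))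
      have nat : b.map ((sliceTo w).map n) ≫ (Γ w).toNatTrans.app (T w) =
          (Γ w).toNatTrans.app z.obj ≫ b'.map ((sliceTo w).map n) := (Γ w).toNatTrans.naturality n
      have hz : (Γ w).toNatTrans.app z.obj = γ.toNatTrans.app ((pullTo w).obj z) :=
        congrArg (fun t => t.toNatTrans.app z) (hΓ w)
      rw [hk]
      simp only [η, Functor.map_comp, Category.assoc]
      rw [← Functor.map_comp_assoc b.toFunctor (sliceToIso w).hom (sliceToIso w).inv, Iso.hom_inv_id,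
        CategoryTheory.Functor.map_id, Category.id_comp, reassoc_of% nat, hz]
      rfl
    have hpη : ∀ w, 𝒳.p.map (η w) = eqToHom ((b.w_obj w).trans (b'.w_obj w).symm) := fun w => by
      have hg : 𝒳.p.map ((Γ w).toNatTrans.app (T w)) = eqToHom _ := map_app (Γ w) (T w)
      simp only [η, Functor.map_comp, map_map, hg]
      have e₁ : (Stk.sieveCat R).p.map (sliceToIso w).hom = 𝟙 _ := rfl
      have e₂ : (Stk.sieveCat R).p.map (sliceToIso w).inv = 𝟙 _ := rfl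
      rw [e₁, e₂]
      simp [T]
    let N : b ⟶ b' :=
      { app := η
        naturality := fun w w' n => sep b b' w _ _ (by
            simp [Functor.map_comp, map_map, hpη]) fun z => by
          let u : (Stk.sieveCat S).obj := (pullTo w).obj z
          let k : (sieveLE hSR).obj u ⟶ w := (sliceTo w).map
            (Over.homMk z.obj.hom (Category.comp_id _) : z.obj ⟶ Over.mk (𝟙 w.obj.left)) ≫ (sliceToIso w).hom
          show b.map k ≫ b.map n ≫ η w' = b.map k ≫ η w ≫ b'.map n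
          rw [← Functor.map_comp_assoc, key w' u (k ≫ n), reassoc_of% (key w u k), Functor.map_comp]
        isHomLift' := fun w => isHomLift_of_map _ (b.w_obj w) (b'.w_obj w) (hpη w) }
    refine ⟨N, ?_⟩
    apply BasedNatTrans.homCategory.ext
    ext u
    have h₀ := key ((sieveLE hSR).obj u) u (𝟙 _)
    rw [CategoryTheory.Functor.map_id, CategoryTheory.Functor.map_id, Category.id_comp] at h₀
    exact h₀.trans (Category.comp_id _)⟩
  haveI hS' : (Stk.resSieve S 𝒳).IsEquivalence := hS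
  let sq : Stk.resSieve S 𝒳 ≅ Stk.resSieve R 𝒳 ⋙ i :=
    NatIso.ofComponents (fun a => Iso.refl _) (fun α => (Category.comp_id _).trans (Category.id_comp _).symm)
  haveI : (Stk.resSieve R 𝒳 ⋙ i).IsEquivalence := Functor.isEquivalence_of_iso sq
  haveI : (Stk.resSieve R 𝒳).Full := Functor.Full.of_comp_faithful _ i
  haveI : (Stk.resSieve R 𝒳).Faithful := Functor.Faithful.of_comp _ i
  haveI : (Stk.resSieve R 𝒳).EssSurj := ⟨fun b =>
    ⟨(Stk.resSieve R 𝒳 ⋙ i).objPreimage (i.obj b),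
      ⟨i.preimageIso ((Stk.resSieve R 𝒳 ⋙ i).objObjPreimageIso (i.obj b))⟩⟩⟩
  exact { }

end refine

end Groth.Agent.FibCat2Misc

end
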