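import Groth.Agent.FibCat2Misc.Grpd
import Groth.Agent.S6409
import Mathlib.CategoryTheory.Sites.Grothendieck

/-!
Fully faithful functors tested on slices, locally surjective functors.
-/

set_option autoImplicit false
set_option backward.isDefEq.respectTransparency false
set_option backward.isDefEq.respectTransparency.types false
set_option linter.style.haveILetI false
universe v u

noncomputable section

namespace Groth.Agent.FibCat2Misc

open CategoryTheory CategoryTheory.Limits FibCat Groth.Agent.FibCatRep Groth.Agent.StkBasic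

variable {C : Type u} [Category.{v} C] {𝒳 𝒴 𝒵 : BasedCategory.{v, max u v} C}

/-- Evaluation at the identity commutes with postcomposition. -/
def evalPostIso (U : C) (F : 𝒳 ⟶ 𝒴) :
    Bicategory.postcomp (overCat U) F ⋙ evalAtId 𝒴 U ≅ evalAtId 𝒳 U ⋙ fiberFunctor F U :=
  NatIso.ofComponents (fun _ => Iso.refl _) (fun {a b} α =>
    (Category.comp_id _).trans (Eq.trans (Subtype.ext rfl) (Category.id_comp _).symm))

theorem fullyFaithful_iff (h𝒳 : IsFibGrpd 𝒳.p) (h𝒴 : IsFibGrpd 𝒴.p) (F : 𝒳 ⟶ 𝒴) :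
    (F.toFunctor.Full ∧ F.toFunctor.Faithful) ↔ ∀ U : C,
      (Bicategory.postcomp (overCat U) F).Full ∧ (Bicategory.postcomp (overCat U) F).Faithful := by
  constructor
  · intro h U
    haveI := h.1
    haveI := h.2
    obtain ⟨h₁, h₂⟩ := fullyFaithful_fiber (G := F) U
    haveI := h₁
    haveI := h₂
    haveI := S6409.result h𝒳 U
    haveI := S6409.result h𝒴 U
    haveI : (Bicategory.postcomp (overCat U) F ⋙ evalAtId 𝒴 U).Full := Functor.Full.of_iso (evalPostIso U F).symm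
    haveI : (Bicategory.postcomp (overCat U) F ⋙ evalAtId 𝒴 U).Faithful :=
      Functor.Faithful.of_iso (evalPostIso U F).symm
    exact ⟨Functor.Full.of_comp_faithful _ (evalAtId 𝒴 U), Functor.Faithful.of_comp _ (evalAtId 𝒴 U)⟩
  · intro h
    haveI := isFibered_of_grpd h𝒳
    have key : ∀ U, (fiberFunctor F U).Full ∧ (fiberFunctor F U).Faithful := fun U => by
      haveI := S6409.result h𝒳 U
      haveI := S6409.result h𝒴 U
      haveI := (h U).1
      haveI := (h U).2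
      let E := (evalAtId 𝒳 U).asEquivalence
      let i : fiberFunctor F U ≅ E.inverse ⋙ Bicategory.postcomp (overCat U) F ⋙ evalAtId 𝒴 U :=
        (Functor.leftUnitor _).symm ≪≫ Functor.isoWhiskerRight E.counitIso.symm _ ≪≫
          Functor.associator _ _ _ ≪≫ Functor.isoWhiskerLeft E.inverse (evalPostIso U F).symm
      exact ⟨Functor.Full.of_iso i.symm, Functor.Faithful.of_iso i.symm⟩
    exact ⟨full_of_fiber_of_cart F (fun φ _ => cart_of_grpd h𝒴 (F.map φ)) (fun U => (key U).1),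
      faithful_of_fiber_of_cart F (fun φ _ => cart_of_grpd h𝒴 (F.map φ)) (fun U => (key U).2)⟩

/-- Composition of the functors over the base induced by morphisms of the base. -/
def overMapCompIso {W V U : C} (g : W ⟶ V) (f : V ⟶ U) :
    BasedFunctor.comp (⟨Over.map g, Over.mapForget_eq g⟩ : overCat W ⥤ᵇ overCat V)
      (⟨Over.map f, Over.mapForget_eq f⟩ : overCat V ⥤ᵇ overCat U) ≅
      (⟨Over.map (g ≫ f), Over.mapForget_eq (g ≫ f)⟩ : overCat W ⥤ᵇ overCat U) :=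
  BasedNatIso.mkNatIso
    (NatIso.ofComponents (fun z => Over.isoMk (Iso.refl _) (by
      show 𝟙 _ ≫ z.hom ≫ g ≫ f = (z.hom ≫ g) ≫ f
      simp))
      (fun {z z'} n => Over.OverMorphism.ext (by
        show n.left ≫ 𝟙 _ = 𝟙 _ ≫ n.left
        simp)))
    (fun z => IsHomLift.of_fac' (overCat U).p (𝟙 _) _ rfl rfl (by simp; rfl))

/-- Being locally surjective on objects of slices. -/
def LocSurj (J : GrothendieckTopology C) (F : 𝒳 ⥤ᵇ 𝒴) : Prop :=
  ∀ (U : C) (y : overCat U ⥤ᵇ 𝒴), ∃ R ∈ J U, ∀ ⦃V : C⦄ (h : V ⟶ U), R.arrows h →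
    ∃ x : overCat V ⥤ᵇ 𝒳, Nonempty (BasedFunctor.comp x F ≅
      BasedFunctor.comp (⟨Over.map h, Over.mapForget_eq h⟩ : overCat V ⥤ᵇ overCat U) y)

theorem locSurj_comp (J : GrothendieckTopology C) (F : 𝒳 ⥤ᵇ 𝒴) (G : 𝒴 ⥤ᵇ 𝒵) (hF : LocSurj J F)
    (hG : LocSurj J G) : LocSurj J (BasedFunctor.comp F G) := by
  intro U y
  obtain ⟨R, hR, hx⟩ := hG U y
  choose x₁ hx₁ using hx
  have h2 : ∀ ⦃V : C⦄ ⦃f : V ⟶ U⦄ (hf : R.arrows f), ∃ S ∈ J V, ∀ ⦃W : C⦄ (g : W ⟶ V), S.arrows g →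
      ∃ x : overCat W ⥤ᵇ 𝒳, Nonempty (BasedFunctor.comp x F ≅
        BasedFunctor.comp (⟨Over.map g, Over.mapForget_eq g⟩ : overCat W ⥤ᵇ overCat V) (x₁ f hf)) :=
    fun V f hf => hF V (x₁ f hf)
  choose S hS hxS using h2
  refine ⟨Sieve.bind R.arrows S, J.bind_covering hR (fun _ _ hf => hS hf), ?_⟩
  rintro W _ ⟨V, g, f, hf, hg, rfl⟩
  obtain ⟨x, ⟨i₂⟩⟩ := hxS hf g hg
  obtain ⟨i₁⟩ := hx₁ f hf
  exact ⟨x, ⟨(post _ G).mapIso i₂ ≪≫
    (Stk.restr (⟨Over.map g, Over.mapForget_eq g⟩ : overCat W ⥤ᵇ overCat V) 𝒵).mapIso i₁ ≪≫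
    (post _ y).mapIso (overMapCompIso g f)⟩⟩

theorem locSurj_fpFst (J : GrothendieckTopology C) (F : 𝒳 ⥤ᵇ 𝒴) (G : 𝒵 ⥤ᵇ 𝒴) (hF : LocSurj J F) :
    LocSurj J (fpFst G F) := by
  intro U y
  obtain ⟨R, hR, hx⟩ := hF U (BasedFunctor.comp y G)
  refine ⟨R, hR, fun V h hh => ?_⟩
  obtain ⟨x, ⟨i⟩⟩ := hx h hh
  exact ⟨fpLift (BasedFunctor.comp (⟨Over.map h, Over.mapForget_eq h⟩ : overCat V ⥤ᵇ overCat U) y) x i.symm,
    ⟨Iso.refl _⟩⟩

end Groth.Agent.FibCat2Misc

end
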